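import Cfsg.Agent.Lib.K41.ExtForm.Main
import Cfsg.Agent.Lib.Subspaces.SympGen

/-!
Field subalgebras of a matrix algebra over any finite index set: the module structure, semilinear
maps versus the normaliser; the form over the extension with a given trace.
Owner: helper41.
-/
set_option autoImplicit false
set_option linter.unusedSectionVars false
set_option linter.style.haveILetI false

namespace Cfsg.Agent.Lib.K41.ExtForm

open Module Matrix Cfsg.Agent.Lib.ExtFieldMax Cfsg.Agent.Lib.Subspaces.Transvection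

section Matrices

variable {ι : Type} [Fintype ι] [DecidableEq ι] {F : Type*} [Field F]

local notation "Mat" => Matrix ι ι F
local notation "Vec" => (ι → F)

/-- The field structure on a field subalgebra. -/
@[reducible] noncomputable def fieldOfSub [Nonempty ι] {r : ℕ} {K : Subalgebra F Mat}
    (h : Cfsg.Geo.IsFieldSubalgebra r K) : Field K :=
  IsField.toField (R := K)
    { exists_pair_ne := ⟨0, 1, fun he => zero_ne_one (congrArg Subtype.val he)⟩
      mul_comm := fun x y => Subtype.ext (h.comm x x.2 y y.2)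
      mul_inv_cancel := fun {x} hx => by
        obtain ⟨y, hy, hxy⟩ := h.inv x x.2 (fun he => hx (Subtype.ext he))
        exact ⟨⟨y, hy⟩, Subtype.ext hxy⟩ }

/-- The action of a subalgebra of matrices on column vectors. -/
@[reducible] noncomputable def subModule (K : Subalgebra F Mat) : Module K Vec :=
  Module.compHom _ (((Matrix.toLinAlgEquiv' : Mat ≃ₐ[F] (Vec →ₗ[F] Vec)).toAlgHom.comp
      K.val).toRingHom)

/-- Invertible matrices as linear automorphisms. -/
noncomputable def glEquiv : GL ι F ≃* (Vec ≃ₗ[F] Vec) :=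
  Matrix.GeneralLinearGroup.toLin.trans (LinearMap.GeneralLinearGroup.generalLinearEquiv F Vec)

theorem glEquiv_apply (A : GL ι F) (x : Vec) : glEquiv A x = (A : Mat) *ᵥ x := rfl

theorem mat_ext' {A B : Mat} (h : ∀ x, A *ᵥ x = B *ᵥ x) : A = B :=
  Matrix.toLin'.injective (LinearMap.ext h)

/-- A matrix semilinear for the subalgebra normalises it. -/
theorem mem_normalizer_of_semi [Finite F] (K : Subalgebra F Mat) (A : GL ι F)
    (h : ∀ c ∈ K, ∃ d ∈ K, ∀ x : Vec, (A : Mat) *ᵥ (c *ᵥ x) = d *ᵥ ((A : Mat) *ᵥ x)) :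
    A ∈ Cfsg.Geo.subalgebraNormalizer K := by
  choose d hdK hd using h
  have hconj : ∀ c (hc : c ∈ K), (A : Mat) * c * ((A⁻¹ : GL ι F) : Mat) = d c hc := fun c hc => by
    have h1 : (A : Mat) * c = d c hc * (A : Mat) := mat_ext' fun x => by
      rw [← mulVec_mulVec, ← mulVec_mulVec, hd]
    rw [h1, Units.mul_inv_cancel_right]
  let D : K → K := fun c => ⟨d c.1 c.2, hdK c.1 c.2⟩
  have hinj : Function.Injective D := fun a b hab => Subtype.ext <| by
    have h1 : (A : Mat) * (a : Mat) * ((A⁻¹ : GL ι F) : Mat) =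
        (A : Mat) * (b : Mat) * ((A⁻¹ : GL ι F) : Mat) := by
      rw [hconj _ a.2, hconj _ b.2]; exact congrArg Subtype.val hab
    exact (Units.mul_right_inj A).1 ((Units.mul_left_inj A⁻¹).1 h1)
  haveI : Finite K := Finite.of_injective (fun x : K => (x : Mat)) Subtype.val_injective
  intro k
  refine ⟨fun hk => ?_, fun hk => ?_⟩
  · rw [hconj k hk]; exact hdK k hk
  · obtain ⟨c, hc⟩ := (Finite.injective_iff_surjective.1 hinj) ⟨_, hk⟩
    have h1 : (A : Mat) * (c : Mat) * ((A⁻¹ : GL ι F) : Mat) =
        (A : Mat) * k * ((A⁻¹ : GL ι F) : Mat) := by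
      rw [hconj _ c.2]; exact congrArg Subtype.val hc
    exact (Units.mul_right_inj A).1 ((Units.mul_left_inj A⁻¹).1 h1) ▸ c.2

/-- An element of the normaliser is semilinear. -/
theorem semi_of_mem_normalizer {K : Subalgebra F Mat} {A : GL ι F}
    (h : A ∈ Cfsg.Geo.subalgebraNormalizer K) {c : Mat} (hc : c ∈ K) :
    ∃ d ∈ K, ∀ x : Vec, (A : Mat) *ᵥ (c *ᵥ x) = d *ᵥ ((A : Mat) *ᵥ x) :=
  ⟨(A : Mat) * c * ((A⁻¹ : GL ι F) : Mat), (h c).1 hc, fun x => by
    rw [mulVec_mulVec, mulVec_mulVec, Units.inv_mul_cancel_right]⟩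

end Matrices

section OfForm

variable {F K V : Type*} [Field F] [Field K] [Algebra F K] [AddCommGroup V] [Module F V]
  [Module K V] [IsScalarTower F K V] [Finite F] [Finite K] [Finite V]

/-- The functional `c ↦ f (c • x, y)`. -/
noncomputable def scalarDual (f : V →ₗ[F] V →ₗ[F] F) (x y : V) : Module.Dual F K where
  toFun c := f (c • x) y
  map_add' a b := by rw [add_smul, map_add, LinearMap.add_apply]
  map_smul' t a := by rw [smul_assoc, map_smul, LinearMap.smul_apply, RingHom.id_apply]

/-- The `K`-valued form with trace `f`. -/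
noncomputable def liftForm (f : V →ₗ[F] V →ₗ[F] F) (x y : V) : K :=
  dualEquiv.symm (scalarDual f x y)

theorem trace_liftForm (f : V →ₗ[F] V →ₗ[F] F) (x y : V) (c : K) :
    Algebra.trace F K (c * liftForm f x y) = f (c • x) y := by
  have h := LinearMap.congr_fun
    (LinearEquiv.apply_symm_apply (dualEquiv (F := F) (K := K)) (scalarDual f x y)) c
  rw [dualEquiv_apply, mul_comm] at h
  exact h

theorem trace_liftForm_one (f : V →ₗ[F] V →ₗ[F] F) (x y : V) :
    Algebra.trace F K (liftForm (K := K) f x y) = f x y := by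
  simpa using trace_liftForm f x y (1 : K)

theorem liftForm_add_left (f : V →ₗ[F] V →ₗ[F] F) (x y z : V) :
    liftForm (K := K) f (x + y) z = liftForm f x z + liftForm f y z :=
  trace_ext (F := F) fun a => by
    rw [mul_add, map_add, trace_liftForm, trace_liftForm, trace_liftForm, smul_add, map_add,
      LinearMap.add_apply]

theorem liftForm_smul_left (f : V →ₗ[F] V →ₗ[F] F) (c : K) (x z : V) :
    liftForm f (c • x) z = c * liftForm f x z :=
  trace_ext (F := F) fun a => by
    rw [← mul_assoc, trace_liftForm, trace_liftForm, smul_smul]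

theorem liftForm_add_right (f : V →ₗ[F] V →ₗ[F] F) (x y z : V) :
    liftForm (K := K) f x (y + z) = liftForm f x y + liftForm f x z :=
  trace_ext (F := F) fun a => by
    rw [mul_add, map_add, trace_liftForm, trace_liftForm, trace_liftForm, map_add]

theorem liftForm_smul_right {f : V →ₗ[F] V →ₗ[F] F}
    (hsa : ∀ (c : K) (x y : V), f (c • x) y = f x (c • y)) (c : K) (x z : V) :
    liftForm f x (c • z) = c * liftForm f x z :=
  trace_ext (F := F) fun a => by
    rw [← mul_assoc, trace_liftForm, trace_liftForm, mul_comm a c, mul_smul, hsa c]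

theorem two_le_of_alternating [Nontrivial V] {f : V →ₗ[F] V →ₗ[F] F}
    (hsa : ∀ (c : K) (x y : V), f (c • x) y = f x (c • y))
    (halt : ∀ (c : K) (x : V), f (c • x) x = 0) (hnd : ∀ x, (∀ y, f x y = 0) → x = 0) :
    2 ≤ finrank K V := by
  haveI : FiniteDimensional K V := Module.Finite.of_finite
  by_contra h
  have h0 : 0 < finrank K V := Module.finrank_pos
  obtain ⟨e, he, hspan⟩ := finrank_eq_one_iff'.1 (show finrank K V = 1 by omega)
  refine he (hnd e fun y => ?_)
  obtain ⟨b, rfl⟩ := hspan y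
  rw [← hsa, halt]

/-- The setting given by an alternating form for which the scalars of `K` are self-adjoint. -/
noncomputable def Setting.ofForm [Nontrivial V] (f : V →ₗ[F] V →ₗ[F] F)
    (hsa : ∀ (c : K) (x y : V), f (c • x) y = f x (c • y))
    (halt : ∀ (c : K) (x : V), f (c • x) x = 0) (hnd : ∀ x, (∀ y, f x y = 0) → x = 0)
    (M : Subgroup (V ≃ₗ[F] V)) (hiso : ∀ g ∈ M, ∀ x y, f (g x) (g y) = f x y)
    (hsemi : ∀ g : V ≃ₗ[F] V, IsSemi F K g → (∀ x y, f (g x) (g y) = f x y) → g ∈ M)
    (hp : (finrank F K).Prime) (hn : 8 ≤ finrank F V ∨ 3 ≤ finrank F K) : Setting F K V where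
  ω := liftForm f
  add_left := liftForm_add_left f
  smul_left := liftForm_smul_left f
  add_right := liftForm_add_right f
  smul_right := liftForm_smul_right hsa
  alt x := trace_ext (F := F) fun a => by rw [trace_liftForm, halt, mul_zero, map_zero]
  nondeg x h := hnd x fun y => by rw [← trace_liftForm_one (K := K), h, map_zero]
  M := M
  iso g hg x y := by rw [trace_liftForm_one, trace_liftForm_one, hiso g hg]
  semi_mem g hg h := hsemi g hg fun x y => by
    rw [← trace_liftForm_one (K := K), h, trace_liftForm_one]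
  prime := hp
  large := hn
  two_le := two_le_of_alternating hsa halt hnd

theorem Setting.ofForm_f [Nontrivial V] (f : V →ₗ[F] V →ₗ[F] F)
    (hsa : ∀ (c : K) (x y : V), f (c • x) y = f x (c • y))
    (halt : ∀ (c : K) (x : V), f (c • x) x = 0) (hnd : ∀ x, (∀ y, f x y = 0) → x = 0)
    (M : Subgroup (V ≃ₗ[F] V)) (hiso : ∀ g ∈ M, ∀ x y, f (g x) (g y) = f x y)
    (hsemi : ∀ g : V ≃ₗ[F] V, IsSemi F K g → (∀ x y, f (g x) (g y) = f x y) → g ∈ M)
    (hp : (finrank F K).Prime) (hn : 8 ≤ finrank F V ∨ 3 ≤ finrank F K) (x y : V) :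
    (Setting.ofForm f hsa halt hnd M hiso hsemi hp hn).f x y = f x y :=
  trace_liftForm_one f x y

end OfForm

end Cfsg.Agent.Lib.K41.ExtForm
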