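import Mathlib.RingTheory.Trace.Basic
import Mathlib.FieldTheory.Finite.GaloisField
import Mathlib.GroupTheory.SpecificGroups.Cyclic
import Cfsg.Agent.Lib.Subspaces.UnitaryForm
import Cfsg.Agent.Lib.ExtFieldMax.Stab

/-!
Self-adjoint endomorphisms of a finite field extension of prime degree: an additive family
containing the multiplications, stable under `S ↦ c S c` and under one non-semilinear congruence,
contains the trace map.
Owner: helper41.
-/
set_option autoImplicit false
set_option linter.unusedSectionVars false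
set_option linter.style.haveILetI false

namespace Cfsg.Agent.Lib.K41.ExtForm

open Module

variable {F K : Type*} [Field F] [Field K] [Algebra F K] [Finite F] [Finite K]

local notation "E" => Module.End F K
local notation "mu" => (Algebra.lmul F K)
local notation "Gal'" => (K ≃ₐ[F] K)

/-- The trace pairing as an equivalence with the dual. -/
noncomputable def dualEquiv : K ≃ₗ[F] Module.Dual F K :=
  LinearMap.BilinForm.toDual (Algebra.traceForm F K) (traceForm_nondegenerate F K)

theorem dualEquiv_apply (b a : K) : dualEquiv (F := F) b a = Algebra.trace F K (b * a) := by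
  rw [dualEquiv, LinearMap.BilinForm.toDual_def, Algebra.traceForm_apply]

theorem trace_ext {x y : K} (h : ∀ a, Algebra.trace F K (a * x) = Algebra.trace F K (a * y)) :
    x = y :=
  (dualEquiv (F := F)).injective (LinearMap.ext fun a => by
    rw [dualEquiv_apply, dualEquiv_apply, mul_comm x, mul_comm y, h])

/-- The adjoint for the trace pairing. -/
noncomputable def adj (Q : E) : E :=
  dualEquiv.symm.toLinearMap ∘ₗ Q.dualMap ∘ₗ dualEquiv.toLinearMap

theorem adj_spec (Q : E) (a b : K) :
    Algebra.trace F K (Q a * b) = Algebra.trace F K (a * adj Q b) := by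
  have h : dualEquiv (adj Q b) = Q.dualMap (dualEquiv b) := LinearEquiv.apply_symm_apply _ _
  have h1 := LinearMap.congr_fun h a
  rw [LinearMap.dualMap_apply, dualEquiv_apply, dualEquiv_apply] at h1
  rw [mul_comm, ← h1, mul_comm]

theorem adj_eq {Q Q' : E}
    (h : ∀ a b, Algebra.trace F K (Q a * b) = Algebra.trace F K (a * Q' b)) : adj Q = Q' :=
  LinearMap.ext fun b => trace_ext (F := F) fun a => by rw [← adj_spec, h]

theorem adj_mul (P Q : E) : adj (P * Q) = adj Q * adj P :=
  adj_eq fun a b => by rw [Module.End.mul_apply, adj_spec, adj_spec, Module.End.mul_apply]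

theorem adj_mu (c : K) : adj (mu c) = mu c :=
  adj_eq fun a b => by simp [mul_comm, mul_left_comm]

theorem adj_one : adj (1 : E) = 1 := adj_eq fun a b => by simp

theorem adj_add (P Q : E) : adj (P + Q) = adj P + adj Q :=
  adj_eq fun a b => by simp [add_mul, mul_add, adj_spec]

theorem adj_sub (P Q : E) : adj (P - Q) = adj P - adj Q :=
  adj_eq fun a b => by simp [sub_mul, mul_sub, adj_spec]

theorem adj_smul (t : F) (P : E) : adj (t • P) = t • adj P :=
  adj_eq fun a b => by simp [adj_spec]

theorem adj_sum {ι : Type*} (s : Finset ι) (f : ι → E) : adj (∑ i ∈ s, f i) = ∑ i ∈ s, adj (f i) :=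
  adj_eq fun a b => by simp [Finset.sum_mul, Finset.mul_sum, adj_spec]

theorem adj_aut (σ : Gal') : adj σ.toLinearMap = σ.symm.toLinearMap :=
  adj_eq fun a b => by
    conv_rhs => rw [← Algebra.trace_eq_of_algEquiv σ]
    simp [map_mul]

/-- Being self-adjoint for the trace pairing. -/
def SelfAdj (S : E) : Prop :=
  ∀ a b, Algebra.trace F K (S a * b) = Algebra.trace F K (a * S b)

theorem SelfAdj.adj_eq {S : E} (h : SelfAdj S) : adj S = S := ExtForm.adj_eq h

theorem selfAdj_mu (c : K) : SelfAdj (mu c : E) := fun a b => by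
  simp [mul_comm, mul_left_comm]

theorem selfAdj_of_adj_eq {S : E} (h : adj S = S) : SelfAdj S := fun a b => by
  rw [adj_spec, h]

theorem SelfAdj.congr {S : E} (h : SelfAdj S) (P : E) : SelfAdj (P * S * adj P) :=
  selfAdj_of_adj_eq (by
    rw [adj_mul, adj_mul, h.adj_eq, ExtForm.adj_eq (Q := adj P) (Q' := P) fun a b => by
      rw [mul_comm, ← adj_spec, mul_comm], mul_assoc])

/-- An additive family of self-adjoint maps containing multiplications, stable under `S ↦ c S c`. -/
structure Family (U : AddSubgroup E) : Prop where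
  mu_mem : ∀ c : K, mu c ∈ U
  conj_mem : ∀ (c : K), ∀ S ∈ U, mu c * S * mu c ∈ U
  selfAdj : ∀ S ∈ U, SelfAdj S

/-- Every element of a finite field is a sum of two squares. -/
theorem exists_two_sq (a : F) : ∃ b e : F, a = b ^ 2 + e ^ 2 := by
  obtain ⟨b, e, h⟩ := Cfsg.Agent.Lib.Subspaces.UnitaryForm.exists_quad_root (-a) 1 1
    one_ne_zero one_ne_zero
  exact ⟨b, e, by linear_combination -h⟩

variable {U : AddSubgroup (Module.End F K)}

theorem Family.smul_mem (hU : Family U) (t : F) {S : E} (hS : S ∈ U) : t • S ∈ U := by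
  obtain ⟨b, e, rfl⟩ := exists_two_sq t
  have h : ∀ b : F, (b ^ 2) • S ∈ U := fun b => by
    have := hU.conj_mem (algebraMap F K b) S hS
    rwa [AlgHom.commutes, Algebra.algebraMap_eq_smul_one, smul_mul_assoc, one_mul, mul_smul_comm,
      mul_one, smul_smul, ← pow_two] at this
  rw [add_smul]
  exact U.add_mem (h b) (h e)

/-- `∑ a σ • σ`. -/
noncomputable def rep [Fintype Gal'] (a : Gal' → K) : E := ∑ σ, mu (a σ) * σ.toLinearMap

theorem rep_apply [Fintype Gal'] (a : Gal' → K) (x : K) : rep a x = ∑ σ, a σ * σ x := by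
  simp [rep]

theorem rep_single [Fintype Gal'] [DecidableEq Gal'] (σ : Gal') (k : K) :
    rep (Pi.single σ k) = mu k * σ.toLinearMap := by
  refine LinearMap.ext fun x => ?_
  rw [rep_apply, Finset.sum_eq_single σ (fun τ _ h => by simp [h]) (fun h => absurd (Finset.mem_univ σ) h)]
  simp

theorem exists_rep [Fintype Gal'] (Q : E) : ∃ a : Gal' → K, rep a = Q := by
  classical
  haveI : FiniteDimensional F K := Module.Finite.of_finite
  have hli : LinearIndependent K fun σ : Gal' => (σ : K →ₐ[F] K).toLinearMap :=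
    (linearIndependent_algHom_toLinearMap F K K).comp _ AlgEquiv.coe_toAlgHom_injective
  have hspan := hli.span_eq_top_of_card_eq_finrank' (by
    rw [Module.finrank_linearMap_self, ← Nat.card_eq_fintype_card, IsGalois.card_aut_eq_finrank])
  obtain ⟨a, ha⟩ := (Submodule.mem_span_range_iff_exists_fun K).1
    (hspan ▸ Submodule.mem_top : (Q : K →ₗ[F] K) ∈ _)
  refine ⟨a, LinearMap.ext fun x => ?_⟩
  rw [rep_apply, ← ha]
  simp [LinearMap.sum_apply]

theorem mem_range_of_fixed (hr : (finrank F K).Prime) {σ : Gal'} (hσ : σ ≠ 1) {c : K}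
    (hc : σ c = c) : c ∈ Set.range (algebraMap F K) := by
  by_contra hcon
  have h := Cfsg.Agent.Lib.ExtFieldMax.subalgebra_eq_top hr
    (AlgHom.equalizer (σ : K →ₐ[F] K) (AlgHom.id F K)) (c := c) hc hcon
  exact hσ (AlgEquiv.ext fun x =>
    ((AlgHom.mem_equalizer _ _ x).1 (h ▸ Algebra.mem_top : x ∈ AlgHom.equalizer _ _)))

theorem exists_not_range (hr : (finrank F K).Prime) : ∃ c : K, c ∉ Set.range (algebraMap F K) := by
  by_contra hcon
  push Not at hcon
  haveI := Subalgebra.isSimpleOrder_of_finrank_prime F K hr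
  exact bot_ne_top (α := Subalgebra F K) (eq_top_iff.2 fun x _ => Algebra.mem_bot.2 (hcon x))

theorem exists_moved (hr : (finrank F K).Prime) {σ : Gal'} (hσ : σ ≠ 1) : ∃ c : K, σ c ≠ c := by
  by_contra h
  push Not at h
  exact hσ (AlgEquiv.ext h)

theorem gal_comm (hr : (finrank F K).Prime) (σ τ : Gal') : σ * τ = τ * σ := by
  haveI : FiniteDimensional F K := Module.Finite.of_finite
  haveI : Fact (finrank F K).Prime := ⟨hr⟩
  haveI : IsCyclic Gal' := isCyclic_of_prime_card (p := finrank F K)
    (IsGalois.card_aut_eq_finrank F K)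
  obtain ⟨g, hg⟩ := IsCyclic.exists_generator (α := Gal')
  obtain ⟨i, rfl⟩ := Subgroup.mem_zpowers_iff.1 (hg σ)
  obtain ⟨j, rfl⟩ := Subgroup.mem_zpowers_iff.1 (hg τ)
  exact (Commute.refl g).zpow_zpow i j

/-- `c - σ c` is not always in the ground field when the degree is at least three. -/
theorem exists_sub_not_range (hr : (finrank F K).Prime) (h3 : 3 ≤ finrank F K) {σ : Gal'}
    (hσ : σ ≠ 1) : ∃ c : K, c - σ c ∉ Set.range (algebraMap F K) := by
  by_contra hcon
  push Not at hcon
  haveI : FiniteDimensional F K := Module.Finite.of_finite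
  let D : E := LinearMap.id - σ.toLinearMap
  have hker : LinearMap.ker D ≤ Submodule.span F {(1 : K)} := fun c hc => by
    obtain ⟨t, rfl⟩ := mem_range_of_fixed hr hσ (c := c) (by
      rw [LinearMap.mem_ker] at hc
      exact (sub_eq_zero.1 hc).symm)
    exact Submodule.mem_span_singleton.2 ⟨t, by rw [Algebra.algebraMap_eq_smul_one]⟩
  have hran : LinearMap.range D ≤ Submodule.span F {(1 : K)} := by
    rintro _ ⟨c, rfl⟩
    obtain ⟨t, ht⟩ := hcon c
    exact Submodule.mem_span_singleton.2 ⟨t, by rw [← Algebra.algebraMap_eq_smul_one]; exact ht⟩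
  have h1 := LinearMap.finrank_range_add_finrank_ker D
  have h2 := Submodule.finrank_mono hker
  have h4 := Submodule.finrank_mono hran
  rw [finrank_span_singleton (one_ne_zero (α := K))] at h2 h4
  omega

/-- Lie multipliers of the family. -/
def multipliers (hU : Family U) : Submodule F E where
  carrier := {Q | ∀ S ∈ U, Q * S + S * adj Q ∈ U}
  add_mem' := fun {P Q} hP hQ S hS => by
    have := U.add_mem (hP S hS) (hQ S hS)
    convert this using 1
    rw [adj_add, add_mul, mul_add]; abel
  zero_mem' := fun S _ => by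
    rw [adj_eq (Q := (0 : E)) (Q' := 0) fun a b => by simp, zero_mul, mul_zero, add_zero]
    exact U.zero_mem
  smul_mem' := fun t Q hQ S hS => by
    rw [adj_smul, smul_mul_assoc, mul_smul_comm, ← smul_add]
    exact hU.smul_mem t (hQ S hS)

theorem mu_mem_multipliers (hU : Family U) (c : K) : mu c ∈ multipliers hU := fun S hS => by
  rw [adj_mu]
  have h := U.sub_mem (U.sub_mem (hU.conj_mem (1 + c) S hS) hS) (hU.conj_mem c S hS)
  convert h using 1
  rw [map_add, map_one]
  noncomm_ring

theorem bracket_mem (hU : Family U) {P Q : E} (hP : P ∈ multipliers hU)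
    (hQ : Q ∈ multipliers hU) : P * Q - Q * P ∈ multipliers hU := fun S hS => by
  have h := U.sub_mem (hP _ (hQ S hS)) (hQ _ (hP S hS))
  convert h using 1
  rw [adj_sub, adj_mul, adj_mul]
  simp only [mul_add, add_mul, mul_sub, sub_mul, mul_assoc]
  abel

theorem conj_mu_mem (hU : Family U) {Q : E} (hQ : Q ∈ multipliers hU) {d : K} (hd : d ≠ 0) :
    mu d * Q * mu d⁻¹ ∈ multipliers hU := fun S hS => by
  have h1 : mu d * mu d⁻¹ = (1 : E) := by rw [← map_mul, mul_inv_cancel₀ hd, map_one]
  have h2 : mu d⁻¹ * mu d = (1 : E) := by rw [← map_mul, inv_mul_cancel₀ hd, map_one]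
  have h := hU.conj_mem d _ (hQ _ (hU.conj_mem d⁻¹ S hS))
  convert h using 1
  rw [adj_mul, adj_mul, adj_mu, adj_mu]
  calc mu d * Q * mu d⁻¹ * S + S * (mu d⁻¹ * (adj Q * mu d))
      = mu d * Q * (mu d⁻¹ * S * (mu d⁻¹ * mu d)) + (mu d * mu d⁻¹) * S * mu d⁻¹ * adj Q * mu d := by
        rw [h1, h2]; noncomm_ring
    _ = _ := by noncomm_ring

/-- The coordinatewise multipliers. -/
noncomputable def coordAlg [Fintype Gal'] (hU : Family U) : Subalgebra F (Gal' → K) where
  carrier := {α | ∀ a, rep a ∈ multipliers hU → rep (α * a) ∈ multipliers hU}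
  mul_mem' := fun {α β} hα hβ a ha => by rw [mul_assoc]; exact hα _ (hβ a ha)
  one_mem' := fun a ha => by rwa [one_mul]
  add_mem' := fun {α β} hα hβ a ha => by
    have := (multipliers hU).add_mem (hα a ha) (hβ a ha)
    convert this using 1
    simp [rep, add_mul, map_add, Finset.sum_add_distrib]
  zero_mem' := fun a _ => by
    convert (multipliers hU).zero_mem using 1
    simp [rep]
  algebraMap_mem' := fun t a ha => by
    have := (multipliers hU).smul_mem t ha
    convert this using 1
    refine LinearMap.ext fun x => ?_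
    rw [LinearMap.smul_apply, rep_apply, rep_apply, Finset.smul_sum]
    refine Finset.sum_congr rfl fun σ _ => ?_
    rw [Pi.mul_apply, Pi.algebraMap_apply, Algebra.smul_def, mul_assoc]

theorem sub_mem_coordAlg [Fintype Gal'] (hU : Family U) (c : K) :
    (fun σ : Gal' => c - σ c) ∈ coordAlg hU := fun a ha => by
  have h := bracket_mem hU (mu_mem_multipliers hU c) ha
  convert h using 1
  refine LinearMap.ext fun x => ?_
  rw [LinearMap.sub_apply, Module.End.mul_apply, Module.End.mul_apply, rep_apply, rep_apply]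
  simp only [Algebra.coe_lmul_eq_mul, LinearMap.mul_apply', rep_apply, Pi.mul_apply, map_mul]
  rw [Finset.mul_sum, ← Finset.sum_sub_distrib]
  exact Finset.sum_congr rfl fun σ _ => by ring

theorem div_mem_coordAlg [Fintype Gal'] (hU : Family U) {d : K} (hd : d ≠ 0) :
    (fun σ : Gal' => d / σ d) ∈ coordAlg hU := fun a ha => by
  have h := conj_mu_mem hU ha hd
  convert h using 1
  refine LinearMap.ext fun x => ?_
  rw [Module.End.mul_apply, Module.End.mul_apply, rep_apply]
  simp only [Algebra.coe_lmul_eq_mul, LinearMap.mul_apply', rep_apply, Pi.mul_apply, map_mul, map_inv₀]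
  rw [Finset.mul_sum]
  exact Finset.sum_congr rfl fun σ _ => by
    rw [div_eq_mul_inv]; ring

/-- Two coordinates are separated. -/
theorem exists_separate [Fintype Gal'] (hr : (finrank F K).Prime) (h3 : 3 ≤ finrank F K)
    (hU : Family U) {σ τ : Gal'} (hσ : σ ≠ 1) (hne : τ ≠ σ) :
    ∃ α ∈ coordAlg hU, α τ = 0 ∧ α σ ≠ 0 := by
  classical
  by_contra hcon
  push Not at hcon
  by_cases hτ : τ = 1
  · obtain ⟨c, hc⟩ := exists_moved hr hσ
    exact hc (sub_eq_zero.1 (hcon _ (sub_mem_coordAlg hU c) (by simp [hτ]))).symm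
  let pτ : coordAlg hU →ₐ[F] K := (Pi.evalAlgHom F (fun _ : Gal' => K) τ).comp (coordAlg hU).val
  have hsurj : Function.Surjective pτ := by
    obtain ⟨c, hc⟩ := exists_sub_not_range hr h3 hτ
    have htop := Cfsg.Agent.Lib.ExtFieldMax.subalgebra_eq_top hr pτ.range
      (c := c - τ c) ⟨⟨_, sub_mem_coordAlg hU c⟩, rfl⟩ hc
    intro x
    exact (AlgHom.mem_range pτ).1 (htop ▸ Algebra.mem_top : x ∈ pτ.range)
  choose s hs using hsurj
  have hdet : ∀ α ∈ coordAlg hU, (s (α τ)).1 σ = α σ := fun α hα => by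
    have h1 : ((s (α τ)).1 - α) τ = 0 := by
      rw [Pi.sub_apply, sub_eq_zero]; exact hs (α τ)
    exact sub_eq_zero.1 (hcon _ (sub_mem (s (α τ)).2 hα) h1)
  let θ : K →ₐ[F] K :=
    { toFun := fun x => (s x).1 σ
      map_one' := hdet 1 (one_mem _)
      map_mul' := fun x y => by
        have h := hdet _ (mul_mem (s x).2 (s y).2)
        rw [Pi.mul_apply, Pi.mul_apply, show (s x).1 τ = x from hs x, show (s y).1 τ = y from hs y] at h
        exact h
      map_zero' := hdet 0 (zero_mem _)
      map_add' := fun x y => by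
        have h := hdet _ (add_mem (s x).2 (s y).2)
        rw [Pi.add_apply, Pi.add_apply, show (s x).1 τ = x from hs x, show (s y).1 τ = y from hs y] at h
        exact h
      commutes' := fun t => by
        have h := hdet _ ((coordAlg hU).algebraMap_mem t)
        rwa [Pi.algebraMap_apply, Pi.algebraMap_apply] at h }
  have hbij : Function.Bijective θ :=
    ⟨θ.toRingHom.injective, Finite.injective_iff_surjective.1 θ.toRingHom.injective⟩
  let Θ : Gal' := AlgEquiv.ofBijective θ hbij
  obtain ⟨c, hc⟩ := exists_not_range (F := F) hr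
  have hc0 : c ≠ 0 := by rintro rfl; exact hc ⟨0, map_zero _⟩
  have e1 : Θ c - Θ (τ c) = c - σ c := by
    rw [← map_sub]; exact hdet _ (sub_mem_coordAlg hU c)
  have e2 : Θ c / Θ (τ c) = c / σ c := by
    rw [← map_div₀]; exact hdet _ (div_mem_coordAlg hU hc0)
  have hσc : σ c ≠ 0 := by simpa using hc0
  have hτc : Θ (τ c) ≠ 0 := by simpa using hc0
  rw [div_eq_div_iff hτc hσc] at e2
  have e3 : (Θ c - c) * (Θ c - Θ (τ c)) = 0 := by linear_combination Θ c * e1 - e2
  rcases mul_eq_zero.1 e3 with h | h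
  · have hΘ : Θ = 1 := by
      by_contra hne'
      exact hc (mem_range_of_fixed hr hne' (sub_eq_zero.1 h))
    have h5 : τ c = σ c := by
      rw [hΘ] at e1
      simpa using e1
    refine hne ?_
    by_contra hne'
    exact hc (mem_range_of_fixed hr (σ := σ⁻¹ * τ) (fun h6 => hne' (inv_mul_eq_one.1 h6).symm) (by
      rw [AlgEquiv.mul_apply, h5]; exact AlgEquiv.symm_apply_apply σ c))
  · exact hc (mem_range_of_fixed hr hτ (Θ.injective (sub_eq_zero.1 h)).symm)

/-- A coordinate can be isolated. -/
theorem isolate [Fintype Gal'] [DecidableEq Gal'] (hr : (finrank F K).Prime)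
    (h3 : 3 ≤ finrank F K) (hU : Family U) {a : Gal' → K} (ha : rep a ∈ multipliers hU)
    {σ : Gal'} (hσ : σ ≠ 1) (haσ : a σ ≠ 0) (k : K) :
    mu k * σ.toLinearMap ∈ multipliers hU := by
  have h : ∀ τ : Gal', ∃ α ∈ coordAlg hU, (τ ≠ σ → α τ = 0) ∧ α σ ≠ 0 := fun τ => by
    by_cases hτ : τ = σ
    · exact ⟨1, one_mem _, fun h => absurd hτ h, one_ne_zero⟩
    · obtain ⟨α, hα, h1, h2⟩ := exists_separate hr h3 hU hσ hτ
      exact ⟨α, hα, fun _ => h1, h2⟩
  choose α hα hα0 hασ using h
  set e : Gal' → K := ∏ τ, α τ with he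
  have heA : e ∈ coordAlg hU := prod_mem fun τ _ => hα τ
  have heσ : e σ ≠ 0 := by
    rw [he, Finset.prod_apply]
    exact Finset.prod_ne_zero_iff.2 fun τ _ => hασ τ
  have he0 : ∀ τ, τ ≠ σ → e τ = 0 := fun τ hτ => by
    rw [he, Finset.prod_apply]
    exact Finset.prod_eq_zero (Finset.mem_univ τ) (hα0 τ hτ)
  obtain ⟨c, hc⟩ := exists_sub_not_range hr h3 hσ
  have htop := Cfsg.Agent.Lib.ExtFieldMax.subalgebra_eq_top hr
    ((Pi.evalAlgHom F (fun _ : Gal' => K) σ).comp (coordAlg hU).val).range
    (c := c - σ c) ⟨⟨_, sub_mem_coordAlg hU c⟩, rfl⟩ hc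
  obtain ⟨⟨β, hβ⟩, hβσ⟩ := (AlgHom.mem_range _).1
    (htop ▸ Algebra.mem_top :
      k / (e σ * a σ) ∈ ((Pi.evalAlgHom F (fun _ : Gal' => K) σ).comp (coordAlg hU).val).range)
  have hβσ' : β σ = k / (e σ * a σ) := hβσ
  have h1 := mul_mem hβ heA a ha
  rw [show β * e * a = Pi.single σ k by
    funext τ
    by_cases hτ : τ = σ
    · subst hτ
      rw [Pi.single_eq_same, Pi.mul_apply, Pi.mul_apply, hβσ', mul_assoc,
        div_mul_cancel₀ _ (mul_ne_zero heσ haσ)]
    · rw [Pi.single_eq_of_ne hτ, Pi.mul_apply, Pi.mul_apply, he0 τ hτ, mul_zero, zero_mul]] at h1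
  rwa [rep_single] at h1

theorem orderOf_gal (hr : (finrank F K).Prime) {σ : Gal'} (hσ : σ ≠ 1) :
    orderOf σ = finrank F K := by
  haveI : FiniteDimensional F K := Module.Finite.of_finite
  have h1 : orderOf σ ∣ finrank F K := IsGalois.card_aut_eq_finrank F K ▸ orderOf_dvd_natCard σ
  exact (hr.eq_one_or_self_of_dvd _ h1).resolve_left fun h => hσ (orderOf_eq_one_iff.1 h)

/-- The trace map. -/
noncomputable def piMap : Module.End F K := (Algebra.linearMap F K).comp (Algebra.trace F K)

theorem piMap_apply (x : K) : (piMap : Module.End F K) x = algebraMap F K (Algebra.trace F K x) := rfl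

theorem piMap_eq (hr : (finrank F K).Prime) {σ : Gal'} (hσ : σ ≠ 1) :
    (piMap : Module.End F K) = ∑ i ∈ Finset.range (finrank F K), (σ ^ i).toLinearMap := by
  haveI : FiniteDimensional F K := Module.Finite.of_finite
  refine LinearMap.ext fun x => ?_
  rw [piMap_apply, trace_eq_sum_automorphisms, LinearMap.sum_apply]
  symm
  have ho := orderOf_gal hr hσ
  rw [Finset.sum_range fun i => (σ ^ i).toLinearMap x]
  have hinj : Function.Injective fun i : Fin (finrank F K) => σ ^ (i : ℕ) := fun i j hij =>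
    Fin.ext (pow_injOn_Iio_orderOf (by rw [ho]; exact i.2) (by rw [ho]; exact j.2) hij)
  have hbij : Function.Bijective fun i : Fin (finrank F K) => σ ^ (i : ℕ) :=
    (Fintype.bijective_iff_injective_and_card _).2 ⟨hinj, by
      rw [Fintype.card_fin, ← Nat.card_eq_fintype_card, IsGalois.card_aut_eq_finrank]⟩
  exact Fintype.sum_bijective _ hbij (fun i : Fin (finrank F K) => (σ ^ (i : ℕ)).toLinearMap x)
    (fun τ : Gal' => τ x) fun i => rfl

/-- **Main algebraic step**, degree at least three. -/
theorem piMap_mem_of_congr (hr : (finrank F K).Prime) (h3 : 3 ≤ finrank F K) (hU : Family U)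
    (P : K ≃ₗ[F] K) (hP : ∀ S ∈ U, P.toLinearMap * S * adj P.toLinearMap ∈ U)
    (hns : ∃ c : K, ∀ d : K, (P.toLinearMap * mu c : E) ≠ mu d * P.toLinearMap) :
    piMap ∈ U := by
  classical
  haveI : FiniteDimensional F K := Module.Finite.of_finite
  haveI : Fintype Gal' := Fintype.ofFinite _
  obtain ⟨c, hc⟩ := hns
  set p : E := P.toLinearMap with hp
  set p' : E := P.symm.toLinearMap with hp'
  have hp'p : p' * p = 1 := LinearMap.ext fun x => P.symm_apply_apply x
  have hppa : adj p * adj p' = 1 := by rw [← adj_mul, hp'p, adj_one]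
  have hpre : ∀ S ∈ U, ∃ T ∈ U, p * T * adj p = S := fun S hS => by
    let f : U → U := fun T => ⟨p * T.1 * adj p, hP _ T.2⟩
    have hinj : Function.Injective f := fun T T' h => Subtype.ext (by
      have h1 := congrArg (fun X : U => p' * (X : E) * adj p') h
      calc (T : E) = p' * p * T * (adj p * adj p') := by rw [hp'p, hppa]; simp
        _ = p' * (p * T * adj p) * adj p' := by noncomm_ring
        _ = p' * (p * T' * adj p) * adj p' := h1
        _ = p' * p * T' * (adj p * adj p') := by noncomm_ring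
        _ = T' := by rw [hp'p, hppa]; simp)
    haveI : Finite E := Finite.of_injective (fun g : E => (g : K → K)) DFunLike.coe_injective
    obtain ⟨T, hT⟩ := Finite.injective_iff_surjective.1 hinj ⟨S, hS⟩
    exact ⟨T, T.2, congrArg Subtype.val hT⟩
  have hX : p * mu c * p' ∈ multipliers hU := fun S hS => by
    obtain ⟨T, hT, rfl⟩ := hpre S hS
    have h := hP _ (mu_mem_multipliers hU c T hT)
    convert h using 1
    rw [adj_mul, adj_mul, adj_mu]
    calc p * mu c * p' * (p * T * adj p) + p * T * adj p * (adj p' * (mu c * adj p))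
        = p * mu c * (p' * p) * T * adj p + p * T * (adj p * adj p') * mu c * adj p := by noncomm_ring
      _ = _ := by rw [hp'p, hppa]; noncomm_ring
  obtain ⟨a, ha⟩ := exists_rep (p * mu c * p')
  rw [← ha] at hX
  obtain ⟨σ, hσ, haσ⟩ : ∃ σ : Gal', σ ≠ 1 ∧ a σ ≠ 0 := by
    by_contra hcon
    push Not at hcon
    have h1 : rep a = mu (a 1) := LinearMap.ext fun x => by
      rw [rep_apply, Finset.sum_eq_single (1 : Gal') (fun τ _ h => by rw [hcon τ h, zero_mul])
        (fun h => absurd (Finset.mem_univ _) h)]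
      simp
    apply hc (a 1)
    rw [← h1, ha, mul_assoc (p * mu c), hp'p, mul_one]
  -- every power of `σ`
  have hJ : ∀ n : ℕ, σ ^ n = 1 ∨ ∀ k : K, mu k * (σ ^ n).toLinearMap ∈ multipliers hU := by
    intro n
    induction n with
    | zero => left; exact pow_zero σ
    | succ n ih =>
      rcases ih with h | h
      · right; intro k
        rw [pow_succ, h, one_mul]
        exact isolate hr h3 hU hX hσ haσ k
      by_cases hn : σ ^ (n + 1) = 1
      · exact Or.inl hn
      right
      obtain ⟨k, hk⟩ := exists_moved hr hσ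
      have h1 := bracket_mem hU (h k) (isolate hr h3 hU hX hσ haσ 1)
      have h2 : mu k * (σ ^ n).toLinearMap * (mu 1 * σ.toLinearMap) -
          mu 1 * σ.toLinearMap * (mu k * (σ ^ n).toLinearMap) =
          rep (Pi.single (σ ^ (n + 1)) (k - σ k)) := by
        rw [rep_single]
        refine LinearMap.ext fun x => ?_
        have hcomm : σ ((σ ^ n) x) = (σ ^ n) (σ x) := by
          rw [← AlgEquiv.mul_apply, ← AlgEquiv.mul_apply, ← pow_succ, ← pow_succ']
        simp only [LinearMap.sub_apply, Module.End.mul_apply, AlgEquiv.toLinearMap_apply,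
          Algebra.coe_lmul_eq_mul, LinearMap.mul_apply', one_mul, map_mul, pow_succ,
          AlgEquiv.mul_apply, hcomm, sub_mul]
      rw [h2] at h1
      intro k'
      exact isolate hr h3 hU h1 hn (by rw [Pi.single_eq_same]; exact sub_ne_zero.2 (Ne.symm hk)) k'
  have hall : ∀ τ : Gal', τ.toLinearMap ∈ multipliers hU := fun τ => by
    obtain ⟨n, rfl⟩ : ∃ n : ℕ, σ ^ n = τ := by
      haveI : Fact (finrank F K).Prime := ⟨hr⟩
      exact Submonoid.mem_powers_iff _ _ |>.1 (mem_powers_iff_mem_zpowers.2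
        (mem_zpowers_of_prime_card (IsGalois.card_aut_eq_finrank F K) hσ))
    rcases hJ n with h | h
    · rw [h]
      have h1 := mu_mem_multipliers hU 1
      rw [map_one] at h1
      exact h1
    · have h1 := h 1
      rwa [map_one, one_mul] at h1
  obtain ⟨s, hs⟩ : ∃ s, finrank F K = s + 1 + s := by
    rcases hr.eq_two_or_odd' with h | ⟨k, hk⟩
    · omega
    · exact ⟨k, by omega⟩
  set Q : E := ∑ i ∈ Finset.range s, (σ ^ (i + 1)).toLinearMap with hQdef
  have hQ : Q ∈ multipliers hU := Submodule.sum_mem _ fun i _ => hall _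
  have hone : (1 : E) ∈ U := by have := hU.mu_mem 1; rwa [map_one] at this
  have h1 := hQ 1 hone
  rw [mul_one, one_mul] at h1
  have hQa : adj Q = ∑ i ∈ Finset.range s, (σ ^ (s + 1 + i)).toLinearMap := by
    rw [hQdef, adj_sum, ← Finset.sum_range_reflect]
    refine Finset.sum_congr rfl fun i hi => ?_
    rw [adj_aut]
    congr 1
    show (σ ^ (s - 1 - i + 1))⁻¹ = _
    rw [inv_eq_iff_mul_eq_one, ← pow_add]
    have hi' := Finset.mem_range.1 hi
    rw [show s - 1 - i + 1 + (s + 1 + i) = orderOf σ by rw [orderOf_gal hr hσ]; omega,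
      pow_orderOf_eq_one]
  rw [piMap_eq hr hσ, hs, Finset.sum_range_add, Finset.sum_range_succ', ← hQa, ← hQdef]
  have h2 := U.add_mem h1 hone
  convert h2 using 1
  rw [pow_zero]
  show Q + (1 : E) + adj Q = Q + adj Q + 1
  abel

/-- **Main algebraic step**, degree two. -/
theorem piMap_mem_two (h2 : finrank F K = 2) (hU : Family U) {S : E} (hS : S ∈ U)
    (hns : ∀ c : K, S ≠ mu c) : piMap ∈ U := by
  classical
  haveI : FiniteDimensional F K := Module.Finite.of_finite
  haveI : Fintype Gal' := Fintype.ofFinite _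
  have hr : (finrank F K).Prime := h2.symm ▸ Nat.prime_two
  obtain ⟨a, ha⟩ := exists_rep S
  obtain ⟨σ, hσ, haσ⟩ : ∃ σ : Gal', σ ≠ 1 ∧ a σ ≠ 0 := by
    by_contra hcon
    push Not at hcon
    apply hns (a 1)
    rw [← ha]
    refine LinearMap.ext fun x => ?_
    rw [rep_apply, Finset.sum_eq_single (1 : Gal') (fun τ _ h => by rw [hcon τ h, zero_mul])
      (fun h => absurd (Finset.mem_univ _) h)]
    simp
  have ho := orderOf_gal hr hσ
  have hinv : σ⁻¹ = σ := by
    rw [inv_eq_iff_mul_eq_one, ← pow_two, ← h2, ← ho, pow_orderOf_eq_one]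
  have hcov : ∀ τ : Gal', τ = 1 ∨ τ = σ := fun τ => by
    have hc : Fintype.card Gal' = 2 := by
      rw [← Nat.card_eq_fintype_card, IsGalois.card_aut_eq_finrank, h2]
    by_contra hcon
    push Not at hcon
    have hle := Finset.card_le_univ ({1, σ, τ} : Finset Gal')
    rw [Finset.card_insert_of_notMem (by simp [Ne.symm hσ, Ne.symm hcon.1]),
      Finset.card_insert_of_notMem (by simp [Ne.symm hcon.2]), Finset.card_singleton, hc] at hle
    omega
  have hSeq : S = mu (a 1) + mu (a σ) * σ.toLinearMap := by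
    rw [← ha]
    refine LinearMap.ext fun x => ?_
    rw [rep_apply, ← Finset.sum_subset (Finset.subset_univ {1, σ})
      (fun τ _ h => absurd (hcov τ) (by simpa using h)), Finset.sum_pair (Ne.symm hσ)]
    simp
  have hmem : mu (a σ) * σ.toLinearMap ∈ U := by
    have h := U.sub_mem hS (hU.mu_mem (a 1))
    rwa [hSeq, add_sub_cancel_left] at h
  obtain ⟨t, ht⟩ : a σ ∈ Set.range (algebraMap F K) := by
    apply mem_range_of_fixed hr hσ
    have h := (hU.selfAdj _ hmem).adj_eq
    rw [adj_mul, adj_mu, adj_aut, show σ.symm = σ from hinv] at h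
    simpa using LinearMap.congr_fun h 1
  have ht0 : t ≠ 0 := fun h => haσ (by rw [← ht, h, map_zero])
  have hσU : σ.toLinearMap ∈ U := by
    have h := hU.smul_mem t⁻¹ hmem
    rwa [← ht, AlgHom.commutes, ← Algebra.smul_def, smul_smul, inv_mul_cancel₀ ht0, one_smul] at h
  have hone : (1 : E) ∈ U := by have := hU.mu_mem 1; rwa [map_one] at this
  rw [piMap_eq hr hσ, h2, Finset.sum_range_succ, Finset.sum_range_one, pow_zero, pow_one]
  exact U.add_mem hone hσU

end Cfsg.Agent.Lib.K41.ExtForm
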