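import Mathlib.GroupTheory.Transfer
import Cfsg.Agent.Lib.Coprime.Generation

/-!
An abelian `p`-subgroup `Q` with a non-cyclic part `Q0` whose non-trivial elements are conjugated
into `Q` only by `Q` is the whole group.
Owner: helper41.
-/
set_option autoImplicit false

namespace Cfsg.Agent.Lib.K41.ExtForm

open Subgroup

/-- Burnside transfer and coprime generation. -/
theorem eq_top_of_stable {G : Type*} [Group G] [Finite G] {p : ℕ} [Fact p.Prime] {Q Q0 : Subgroup G}
    (hQ : IsPGroup p Q) (hcomm : IsMulCommutative Q) (hle : Q0 ≤ Q) (hnc : ¬ IsCyclic Q0)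
    (h : ∀ g : G, ∀ q ∈ Q0, q ≠ 1 → g * q * g⁻¹ ∈ Q → g ∈ Q) : Q = ⊤ := by
  haveI := hcomm
  obtain ⟨⟨q0, hq0⟩, hq0'⟩ := Subgroup.ne_bot_iff_exists_ne_one.1
    (fun hb : Q0 = ⊥ => hnc (hb ▸ isCyclic_of_subsingleton))
  have hq01 : q0 ≠ 1 := fun e => hq0' (Subtype.ext e)
  have hnorm : ∀ g ∈ normalizer (Q : Set G), g ∈ Q := fun g hg =>
    h g q0 hq0 hq01 ((mem_normalizer_iff.1 hg q0).1 (hle hq0))
  obtain ⟨P, hQP⟩ := hQ.exists_le_sylow
  have hPQ : (P : Subgroup G) = Q := by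
    refine le_antisymm ?_ hQP
    by_contra hle'
    haveI : Group.IsNilpotent (P : Subgroup G) := P.2.isNilpotent
    have hlt : Q.subgroupOf (P : Subgroup G) < ⊤ := by
      rw [lt_top_iff_ne_top, Ne, subgroupOf_eq_top]
      exact hle'
    obtain ⟨x, hx, hxQ⟩ := SetLike.exists_of_lt (Group.normalizerCondition_of_isNilpotent _ hlt)
    refine hxQ (mem_subgroupOf.2 (hnorm x.1 ?_))
    rw [mem_normalizer_iff]
    intro y
    constructor
    · intro hy
      exact mem_subgroupOf.1 ((mem_normalizer_iff.1 hx ⟨y, hQP hy⟩).1 (mem_subgroupOf.2 hy))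
    · intro hy
      have hyP : y ∈ (P : Subgroup G) := by
        have h1 : (x : G)⁻¹ * ((x : G) * y * (x : G)⁻¹) * (x : G) ∈ (P : Subgroup G) :=
          mul_mem (mul_mem (inv_mem x.2) (hQP hy)) x.2
        simpa [mul_assoc] using h1
      exact mem_subgroupOf.1 ((mem_normalizer_iff.1 hx ⟨y, hyP⟩).2 (mem_subgroupOf.2 hy))
  have hP : normalizer (P : Set G) ≤ centralizer (P : Set G) := by
    intro g hg
    rw [mem_centralizer_iff]
    intro y hy
    have hy' : y ∈ Q := hPQ ▸ hy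
    exact congrArg Subtype.val
      (mul_comm' (⟨y, hy'⟩ : Q) ⟨g, hnorm g (by rw [← hPQ]; exact hg)⟩)
  set C := (MonoidHom.transferSylow P hP).ker with hC
  have hcompl : IsComplement' C Q := hPQ ▸ MonoidHom.ker_transferSylow_isComplement' P hP
  haveI : IsMulCommutative Q0 := ⟨⟨fun a b => Subtype.ext
    (congrArg (fun z : Q => (z : G)) (mul_comm' (⟨a, hle a.2⟩ : Q) ⟨b, hle b.2⟩))⟩⟩
  have hC0 : C = ⊥ := by
    obtain ⟨n, hn⟩ := IsPGroup.iff_card.1 (hQ.to_le hle)
    have hcop : (Nat.card Q0).Coprime (Nat.card C) := hn ▸ Nat.Coprime.pow_left n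
      ((Fact.out : p.Prime).coprime_iff_not_dvd.2 (MonoidHom.not_dvd_card_ker_transferSylow P hP))
    rw [← Cfsg.Agent.Lib.Coprime.iSup_centralizer_eq hnc (K := C)
      (normalizer_eq_top (H := C) ▸ le_top) hcop, eq_bot_iff]
    refine iSup₂_le fun a ha c hc => ?_
    have hcQ : c ∈ Q := by
      refine h c a ha.1 ha.2 ?_
      rw [(mem_centralizer_iff.1 hc.2 a rfl).symm, mul_inv_cancel_right]
      exact hle ha.1
    exact mem_bot.2 (Subgroup.disjoint_def.1 hcompl.disjoint hc.1 hcQ)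
  exact isComplement'_bot_left.1 (hC0 ▸ hcompl)

end Cfsg.Agent.Lib.K41.ExtForm
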