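import Cfsg.Agent.Lib.K41.ExtForm.Alg
import Cfsg.Agent.Lib.K41.ExtForm.Stable

/-!
A vector space over an extension field with an alternating form, seen over the ground field through
the trace: root elements, transitivity, line stabilisers.
Owner: helper41.
-/
set_option autoImplicit false
set_option linter.unusedSectionVars false
set_option linter.style.haveILetI false

namespace Cfsg.Agent.Lib.K41.ExtForm

open Module Cfsg.Agent.Lib.ExtFieldMax

variable {F K V : Type*} [Field F] [Field K] [Algebra F K] [AddCommGroup V] [Module F V]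
  [Module K V] [IsScalarTower F K V] [Finite F] [Finite K] [Finite V]

/-- An alternating `K`-form, and a group of isometries of its trace containing all the semilinear
isometries. -/
structure Setting (F K V : Type*) [Field F] [Field K] [Algebra F K] [AddCommGroup V] [Module F V]
    [Module K V] where
  ω : V → V → K
  add_left : ∀ x y z, ω (x + y) z = ω x z + ω y z
  smul_left : ∀ (c : K) (x z : V), ω (c • x) z = c * ω x z
  add_right : ∀ x y z, ω x (y + z) = ω x y + ω x z
  smul_right : ∀ (c : K) (x z : V), ω x (c • z) = c * ω x z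
  alt : ∀ x, ω x x = 0
  nondeg : ∀ x, (∀ y, ω x y = 0) → x = 0
  M : Subgroup (V ≃ₗ[F] V)
  iso : ∀ g ∈ M, ∀ x y, Algebra.trace F K (ω (g x) (g y)) = Algebra.trace F K (ω x y)
  semi_mem : ∀ g : V ≃ₗ[F] V, IsSemi F K g →
    (∀ x y, Algebra.trace F K (ω (g x) (g y)) = Algebra.trace F K (ω x y)) → g ∈ M
  prime : (finrank F K).Prime
  large : 8 ≤ finrank F V ∨ 3 ≤ finrank F K
  two_le : 2 ≤ finrank K V

/-- A map commuting with multiplications up to a change of scalar. -/
def PSemi (P : K ≃ₗ[F] K) : Prop :=
  ∀ c : K, ∃ d : K, (P.toLinearMap * Algebra.lmul F K c : Module.End F K) =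
    Algebra.lmul F K d * P.toLinearMap

/-- A semilinear map comes with a field automorphism. -/
theorem exists_aut {g : V ≃ₗ[F] V} (h : IsSemi F K g) [Nontrivial V] :
    ∃ ν : K ≃ₐ[F] K, ∀ (c : K) (x : V), g (c • x) = ν c • g x := by
  choose d hd using h
  obtain ⟨u, hu⟩ := exists_ne (0 : V)
  have hgu : g u ≠ 0 := fun h => hu (g.map_eq_zero_iff.1 h)
  have key : ∀ c e : K, (∀ x, g (c • x) = e • g x) → d c = e := fun c e he => by
    have h1 : d c • g u = e • g u := by rw [← hd, ← he]
    exact smul_left_injective K hgu h1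
  let D : K →ₐ[F] K :=
    { toFun := d
      map_one' := key 1 1 fun x => by rw [one_smul, one_smul]
      map_mul' := fun a b => key _ _ fun x => by rw [mul_smul, hd, hd, mul_smul]
      map_zero' := key 0 0 fun x => by rw [zero_smul, zero_smul, map_zero]
      map_add' := fun a b => key _ _ fun x => by rw [add_smul, map_add, hd, hd, add_smul]
      commutes' := fun t => key _ _ fun x => by rw [algebraMap_smul, map_smul, algebraMap_smul] }
  exact ⟨AlgEquiv.ofBijective D ⟨D.toRingHom.injective,
    Finite.injective_iff_surjective.1 D.toRingHom.injective⟩, hd⟩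

theorem isSemi_of_linear {g : V ≃ₗ[F] V} (h : ∀ (c : K) (x : V), g (c • x) = c • g x) :
    IsSemi F K g := fun c => ⟨c, h c⟩

/-- Fixed vectors of a semilinear map with non-trivial automorphism: independence over `F` gives
independence over `K`. -/
theorem fixed_indep (hr : (finrank F K).Prime) {g : V ≃ₗ[F] V} {ν : K ≃ₐ[F] K}
    (hg : ∀ (c : K) (x : V), g (c • x) = ν c • g x) (hν : ν ≠ 1) {ι : Type*} [Fintype ι] {v : ι → V}
    (hv : ∀ i, g (v i) = v i) (hli : LinearIndependent F v) : LinearIndependent K v := by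
  classical
  rw [Fintype.linearIndependent_iff]
  suffices h : ∀ (n : ℕ) (c : ι → K), (Finset.univ.filter fun i => c i ≠ 0).card ≤ n →
      ∑ i, c i • v i = 0 → ∀ i, c i = 0 from fun c hc => h _ c le_rfl hc
  intro n
  induction n with
  | zero =>
    intro c hn _ i
    by_contra hi
    exact Finset.notMem_empty i ((Finset.card_eq_zero.1 (Nat.le_zero.1 hn)) ▸
      Finset.mem_filter.2 ⟨Finset.mem_univ i, hi⟩)
  | succ n ih =>
    intro c hn hsum i
    by_contra hi
    let c' : ι → K := fun j => (c i)⁻¹ * c j
    have hc'i : c' i = 1 := inv_mul_cancel₀ hi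
    have hsum' : ∑ j, c' j • v j = 0 := by
      simp only [c', mul_smul, ← Finset.smul_sum, hsum, smul_zero]
    have hd : ∀ j, ν (c' j) - c' j = 0 := by
      refine ih (fun j => ν (c' j) - c' j) ?_ ?_
      · refine Nat.le_of_lt_succ (lt_of_lt_of_le (Finset.card_lt_card ?_) hn)
        refine (Finset.ssubset_iff_of_subset ?_).2 ⟨i, Finset.mem_filter.2 ⟨Finset.mem_univ i, hi⟩, ?_⟩
        · intro j hj
          refine Finset.mem_filter.2 ⟨Finset.mem_univ j, fun h0 => (Finset.mem_filter.1 hj).2 ?_⟩
          simp [c', h0]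
        · intro hmem
          apply (Finset.mem_filter.1 hmem).2
          show ν (c' i) - c' i = 0
          rw [hc'i, map_one, sub_self]
      · have h1 := congrArg g hsum'
        simp only [map_sum, hg, hv, map_zero] at h1
        simp only [sub_smul, Finset.sum_sub_distrib, h1, hsum', sub_zero]
    have hF : ∀ j, ∃ t : F, algebraMap F K t = c' j := fun j =>
      mem_range_of_fixed hr hν (sub_eq_zero.1 (hd j))
    choose t ht using hF
    have h2 := Fintype.linearIndependent_iff.1 hli t (by
      rw [← hsum']; exact Finset.sum_congr rfl fun j _ => by rw [← ht j, algebraMap_smul]) i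
    rw [← ht i, h2, map_zero] at hc'i
    exact zero_ne_one hc'i

namespace Setting

variable (S : Setting F K V)

/-- The trace form. -/
noncomputable def f (x y : V) : F := Algebra.trace F K (S.ω x y)

theorem skew (x y : V) : S.ω x y = - S.ω y x := by
  have h := S.alt (x + y)
  rw [S.add_left, S.add_right, S.add_right, S.alt, S.alt] at h
  linear_combination h

theorem zero_left (x : V) : S.ω 0 x = 0 := by
  rw [← zero_smul K (0 : V), S.smul_left, zero_mul]

theorem zero_right (x : V) : S.ω x 0 = 0 := by
  rw [S.skew, S.zero_left, neg_zero]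

theorem sub_left (x y z : V) : S.ω (x - y) z = S.ω x z - S.ω y z := by
  rw [sub_eq_add_neg, ← neg_one_smul K y, S.add_left, S.smul_left]; ring

theorem eq_zero_of_trace {x y : V} (h : ∀ c : K, S.f (c • x) y = 0) : S.ω x y = 0 :=
  trace_ext (F := F) fun c => by
    have := h c
    rwa [f, S.smul_left, ← map_zero (Algebra.trace F K), ← mul_zero c] at this

theorem f_iso {g : V ≃ₗ[F] V} (hg : g ∈ S.M) (x y : V) : S.f (g x) (g y) = S.f x y := S.iso g hg x y

theorem f_inv {g : V ≃ₗ[F] V} (hg : g ∈ S.M) (x y : V) : S.f (g⁻¹ x) y = S.f x (g y) := by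
  rw [← S.f_iso hg, apply_inv_self']

theorem nontrivial (S : Setting F K V) : Nontrivial V :=
  Module.nontrivial_of_finrank_pos (R := K) (by have := S.two_le; omega)

theorem exists_ne_zero (S : Setting F K V) : ∃ e : V, e ≠ 0 := by
  haveI := S.nontrivial
  exact exists_ne 0

theorem exists_partner {e : V} (he : e ≠ 0) : ∃ e', S.ω e e' = 1 := by
  obtain ⟨y, hy⟩ : ∃ y, S.ω e y ≠ 0 := by
    by_contra h
    push Not at h
    exact he (S.nondeg e h)
  exact ⟨(S.ω e y)⁻¹ • y, by rw [S.smul_right, inv_mul_cancel₀ hy]⟩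

/-- The orthogonal of a vector. -/
noncomputable def perp (e : V) : Submodule K V where
  carrier := {z | S.ω z e = 0}
  add_mem' := fun {a b} ha hb => by
    simp only [Set.mem_setOf_eq] at ha hb ⊢; rw [S.add_left, ha, hb, add_zero]
  zero_mem' := S.zero_left e
  smul_mem' := fun c z hz => by
    simp only [Set.mem_setOf_eq] at hz ⊢; rw [S.smul_left, hz, mul_zero]

theorem mem_perp {e z : V} : z ∈ S.perp e ↔ S.ω z e = 0 := Iff.rfl

theorem self_mem_perp (e : V) : e ∈ S.perp e := S.alt e

theorem decomp {e e' : V} (h : S.ω e e' = 1) (z : V) :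
    z - (-S.ω z e) • e' ∈ S.perp e := by
  rw [mem_perp, S.sub_left, S.smul_left, S.skew e' e, h]; ring

theorem finrank_perp {e : V} (he : e ≠ 0) : finrank K (S.perp e) + 1 = finrank K V := by
  haveI : FiniteDimensional K V := Module.Finite.of_finite
  let φ : V →ₗ[K] K :=
    { toFun := fun z => S.ω z e, map_add' := fun a b => S.add_left a b e,
      map_smul' := fun c z => S.smul_left c z e }
  have hk : S.perp e = LinearMap.ker φ := rfl
  obtain ⟨e', he'⟩ := S.exists_partner he
  have hφ : φ ≠ 0 := fun h => by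
    have h1 : S.ω e' e = 0 := LinearMap.congr_fun h e'
    rw [S.skew, he'] at h1
    exact one_ne_zero (neg_eq_zero.1 h1)
  rw [hk]
  exact Module.Dual.finrank_ker_add_one_of_ne_zero hφ

/-- A vector orthogonal to the orthogonal of `e` is on its line. -/
theorem eq_smul_of_perp {e e' x : V} (h : S.ω e e' = 1)
    (hx : ∀ y ∈ S.perp e, S.f x y = 0) : x = S.ω x e' • e := by
  rw [← sub_eq_zero]
  have hω : ∀ y ∈ S.perp e, S.ω x y = 0 := fun y hy => S.eq_zero_of_trace fun c => by
    rw [f, S.smul_left, ← S.smul_right]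
    exact hx _ (Submodule.smul_mem _ c hy)
  refine S.nondeg _ fun z => ?_
  have h1 := hω _ (S.decomp h z)
  have h2 : S.ω e (z - (-S.ω z e) • e') = 0 := by
    rw [S.skew]; exact neg_eq_zero.2 (S.decomp h z)
  have hz : z = (z - (-S.ω z e) • e') + (-S.ω z e) • e' := (sub_add_cancel _ _).symm
  rw [S.sub_left, S.smul_left, hz, S.add_right, S.add_right, h1, h2, S.smul_right, S.smul_right, h]
  ring

/-- The nilpotent part of a root element. -/
noncomputable def rootLin (e : V) (T : Module.End F K) : V →ₗ[F] V where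
  toFun z := T (S.ω z e) • e
  map_add' x y := by rw [S.add_left, map_add, add_smul]
  map_smul' t x := by
    rw [← algebraMap_smul K t x, S.smul_left, ← Algebra.smul_def, map_smul, RingHom.id_apply,
      smul_assoc]

/-- The root element `z ↦ z + T (ω z e) • e`. -/
noncomputable def root (e : V) (T : Module.End F K) : V ≃ₗ[F] V :=
  unip (S.rootLin e T) fun z => by
    show T (S.ω (T (S.ω z e) • e) e) • e = 0
    rw [S.smul_left, S.alt, mul_zero, map_zero, zero_smul]

theorem root_apply (e : V) (T : Module.End F K) (z : V) :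
    S.root e T z = z + T (S.ω z e) • e := rfl

theorem root_fix {e z : V} (T : Module.End F K) (h : S.ω z e = 0) : S.root e T z = z := by
  rw [root_apply, h, map_zero, zero_smul, add_zero]

theorem root_mul (e : V) (T T' : Module.End F K) :
    S.root e T * S.root e T' = S.root e (T + T') := LinearEquiv.ext fun z => by
  show S.root e T (S.root e T' z) = _
  rw [root_apply, root_apply, root_apply, S.add_left, S.smul_left, S.alt, mul_zero, add_zero,
    LinearMap.add_apply, add_smul]
  abel

theorem root_zero (e : V) : S.root e 0 = 1 := LinearEquiv.ext fun z => by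
  rw [root_apply, LinearMap.zero_apply, zero_smul, add_zero]; rfl

theorem root_inv (e : V) (T : Module.End F K) : (S.root e T)⁻¹ = S.root e (-T) :=
  inv_eq_of_mul_eq_one_right (by rw [S.root_mul, add_neg_cancel, S.root_zero])

theorem root_pow (e : V) (T : Module.End F K) (n : ℕ) : S.root e T ^ n = S.root e (n • T) := by
  induction n with
  | zero => rw [pow_zero, zero_smul, S.root_zero]
  | succ n ih => rw [pow_succ, ih, S.root_mul, succ_nsmul]

theorem root_iso (e : V) {T : Module.End F K} (hT : SelfAdj T) (z w : V) :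
    S.f (S.root e T z) (S.root e T w) = S.f z w := by
  simp only [f, root_apply, S.add_left, S.add_right, S.smul_left, S.smul_right, S.alt,
    S.skew e w, mul_zero, add_zero, mul_neg, map_add, map_neg]
  rw [hT, mul_comm (S.ω w e)]
  ring

theorem root_linear (e : V) (t c : K) (z : V) :
    S.root e (Algebra.lmul F K t) (c • z) = c • S.root e (Algebra.lmul F K t) z := by
  rw [root_apply, root_apply, smul_add, ← mul_smul, S.smul_left]
  simp [mul_left_comm]

theorem root_mu_mem (e : V) (t : K) : S.root e (Algebra.lmul F K t) ∈ S.M :=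
  S.semi_mem _ (isSemi_of_linear (S.root_linear e t)) fun z w => S.root_iso e (selfAdj_mu t) z w

theorem root_injective {e : V} (he : e ≠ 0) : Function.Injective (S.root e) := fun T T' h => by
  obtain ⟨e', he'⟩ := S.exists_partner he
  refine LinearMap.ext fun a => ?_
  have h1 := LinearEquiv.congr_fun h ((-a) • e')
  rw [root_apply, root_apply, S.smul_left, S.skew e' e, he'] at h1
  simpa using smul_left_injective K he (add_left_cancel h1)

/-- The parameters of the root elements in the group. -/
noncomputable def params (e : V) : AddSubgroup (Module.End F K) where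
  carrier := {T | SelfAdj T ∧ S.root e T ∈ S.M}
  add_mem' := fun {T T'} hT hT' => ⟨fun a b => by
      simp [add_mul, mul_add, hT.1 a b, hT'.1 a b], by
      rw [← S.root_mul]; exact S.M.mul_mem hT.2 hT'.2⟩
  zero_mem' := ⟨fun a b => by simp, by rw [S.root_zero]; exact S.M.one_mem⟩
  neg_mem' := fun {T} hT => ⟨fun a b => by simp [hT.1 a b], by
    rw [← S.root_inv]; exact S.M.inv_mem hT.2⟩

/-- An element mapping a line to a line gives a linear map of the field. -/
theorem exists_lineMap {g : V ≃ₗ[F] V} {e e' : V} (he : e ≠ 0) (he' : e' ≠ 0)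
    (h : ∀ c : K, g (c • e) ∈ Submodule.span K {e'}) :
    ∃ P : K ≃ₗ[F] K, ∀ c, g (c • e) = P c • e' := by
  choose d hd using fun c => Submodule.mem_span_singleton.1 (h c)
  let P : K →ₗ[F] K :=
    { toFun := d
      map_add' := fun a b => smul_left_injective K he' (by
        show d (a + b) • e' = (d a + d b) • e'
        rw [add_smul, hd, hd, hd, add_smul, map_add])
      map_smul' := fun t a => smul_left_injective K he' (by
        show d (t • a) • e' = (t • d a) • e'
        rw [smul_assoc, hd, hd, smul_assoc, map_smul]) }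
  have hinj : Function.Injective P := fun a b hab => by
    have : g (a • e) = g (b • e) := by rw [← hd, ← hd]; exact congrArg (· • e') hab
    exact smul_left_injective K he (g.injective this)
  exact ⟨LinearEquiv.ofBijective P ⟨hinj, Finite.injective_iff_surjective.1 hinj⟩,
    fun c => (hd c).symm⟩

theorem omega_inv {g : V ≃ₗ[F] V} (hg : g ∈ S.M) {e e' : V} {P : K ≃ₗ[F] K}
    (hP : ∀ c, g (c • e) = P c • e') (z : V) :
    S.ω (g⁻¹ z) e = adj P.toLinearMap (S.ω z e') := trace_ext (F := F) fun c => by
  rw [← S.smul_right, ← adj_spec]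
  show S.f (g⁻¹ z) (c • e) = _
  rw [S.f_inv hg, hP, f, S.smul_right]
  rfl

theorem conj_root {g : V ≃ₗ[F] V} (hg : g ∈ S.M) {e e' : V} {P : K ≃ₗ[F] K}
    (hP : ∀ c, g (c • e) = P c • e') (T : Module.End F K) :
    g * S.root e T * g⁻¹ = S.root e' (P.toLinearMap * T * adj P.toLinearMap) :=
  LinearEquiv.ext fun z => by
    show g (S.root e T (g⁻¹ z)) = _
    rw [root_apply, map_add, apply_inv_self', hP, S.omega_inv hg hP, root_apply]
    rfl

theorem params_conj {g : V ≃ₗ[F] V} (hg : g ∈ S.M) {e e' : V} {P : K ≃ₗ[F] K}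
    (hP : ∀ c, g (c • e) = P c • e') {T : Module.End F K} (hT : T ∈ S.params e) :
    P.toLinearMap * T * adj P.toLinearMap ∈ S.params e' :=
  ⟨SelfAdj.congr hT.1 _, by
    rw [← S.conj_root hg hP]; exact S.M.mul_mem (S.M.mul_mem hg hT.2) (S.M.inv_mem hg)⟩

/-- `K`-linear elements are transitive on non-zero vectors. -/
theorem exists_move {x y : V} (hx : x ≠ 0) (hy : y ≠ 0) :
    ∃ g ∈ S.M, (∀ (c : K) (z : V), g (c • z) = c • g z) ∧ g x = y := by
  have step : ∀ x y : V, S.ω x y ≠ 0 →
      ∃ g ∈ S.M, (∀ (c : K) (z : V), g (c • z) = c • g z) ∧ g x = y := by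
    intro x y hxy
    refine ⟨S.root (y - x) (Algebra.lmul F K (S.ω x y)⁻¹), S.root_mu_mem _ _,
      S.root_linear _ _, ?_⟩
    rw [root_apply, sub_eq_add_neg, ← neg_one_smul K x, S.add_right, S.smul_right, S.alt, mul_zero,
      add_zero]
    simp [inv_mul_cancel₀ hxy, neg_one_smul]
  obtain ⟨a, ha⟩ := S.exists_partner hx
  obtain ⟨b, hb⟩ := S.exists_partner hy
  obtain ⟨z, hz1, hz2⟩ : ∃ z, S.ω x z ≠ 0 ∧ S.ω z y ≠ 0 := by
    by_cases h1 : S.ω y a = 0
    · by_cases h2 : S.ω x b = 0
      · refine ⟨a + b, by simp [S.add_right, ha, h2], ?_⟩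
        rw [S.skew, S.add_right, h1, hb]; simp
      · exact ⟨b, h2, by rw [S.skew, hb]; simp⟩
    · exact ⟨a, by simp [ha], by rw [S.skew]; simpa using h1⟩
  obtain ⟨g, hg, hgl, hgx⟩ := step x z hz1
  obtain ⟨k, hk, hkl, hkz⟩ := step z y hz2
  exact ⟨k * g, S.M.mul_mem hk hg,
    fun c u => by show k (g (c • u)) = c • k (g u); rw [hgl, hkl],
    by show k (g x) = y; rw [hgx, hkz]⟩

theorem params_family {e : V} (he : e ≠ 0) : Family (S.params e) where
  mu_mem t := ⟨selfAdj_mu t, S.root_mu_mem e t⟩
  selfAdj T hT := hT.1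
  conj_mem c T hT := by
    by_cases hc : c = 0
    · subst hc; rw [map_zero, zero_mul, zero_mul]; exact (S.params e).zero_mem
    obtain ⟨g, hg, hgl, hge⟩ := S.exists_move he (smul_ne_zero hc he)
    let P : K ≃ₗ[F] K :=
      { toFun := fun a => c * a
        map_add' := mul_add c
        map_smul' := fun t a => mul_smul_comm t c a
        invFun := fun a => c⁻¹ * a
        left_inv := fun a => inv_mul_cancel_left₀ hc a
        right_inv := fun a => mul_inv_cancel_left₀ hc a }
    have hP : (P.toLinearMap : Module.End F K) = Algebra.lmul F K c := rfl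
    have h := S.params_conj hg (P := P) (e' := e)
      (fun a => by rw [hgl, hge, ← mul_smul, mul_comm]; rfl) hT
    rwa [hP, adj_mu] at h

/-- An element fixing the orthogonal of `e` is a root element. -/
theorem exists_root_of_fix {g : V ≃ₗ[F] V} (hg : g ∈ S.M) {e : V} (he : e ≠ 0)
    (hfix : ∀ y ∈ S.perp e, g y = y) : ∃ T ∈ S.params e, g = S.root e T := by
  obtain ⟨e', he'⟩ := S.exists_partner he
  have hline : ∀ z, g z - z = S.ω (g z - z) e' • e := fun z => S.eq_smul_of_perp he' fun y hy => by
    rw [f, S.sub_left, map_sub]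
    show S.f (g z) y - S.f z y = 0
    have h := S.f_iso hg z y
    rw [hfix y hy] at h
    rw [h, sub_self]
  let T : Module.End F K :=
    { toFun := fun a => S.ω (g ((-a) • e') - (-a) • e') e'
      map_add' := fun a b => by
        rw [neg_add, add_smul, map_add, add_sub_add_comm, S.add_left]
      map_smul' := fun t a => by
        rw [← smul_neg, smul_assoc, map_smul, ← smul_sub, ← algebraMap_smul K t, S.smul_left,
          RingHom.id_apply, Algebra.smul_def] }
  have hgT : g = S.root e T := LinearEquiv.ext fun z => by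
    have h1 := hfix _ (S.decomp he' z)
    rw [map_sub, sub_eq_sub_iff_sub_eq_sub] at h1
    rw [root_apply, ← sub_eq_iff_eq_add', h1]
    exact hline _
  refine ⟨T, ⟨fun a b => ?_, hgT ▸ hg⟩, hgT⟩
  have h := S.f_iso hg ((-a) • e') ((-b) • e')
  rw [hgT, root_apply, root_apply] at h
  simp only [f, S.add_left, S.add_right, S.smul_left, S.smul_right, S.alt, S.skew e' e, he',
    mul_zero, add_zero, zero_add, map_add] at h
  simp only [mul_neg, mul_one, neg_mul, neg_neg, map_neg] at h
  rw [map_zero] at h
  linear_combination -h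

end Setting

end Cfsg.Agent.Lib.K41.ExtForm
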