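import Cfsg.Agent.Lib.K41.ExtForm.OfMatrix

/-!
A skew-hermitian form over a quadratic extension, seen over the ground field through the trace: a
group of isometries containing the linear ones and one non-semilinear element contains every
transvection of the trace form (odd characteristic).
Owner: helper41.
-/
set_option autoImplicit false
set_option linter.unusedSectionVars false
set_option linter.style.haveILetI false

namespace Cfsg.Agent.Lib.K41.ExtForm.Herm2

open Module Cfsg.Agent.Lib.ExtFieldMax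

/-- The data. -/
structure Setting (F K V : Type*) [Field F] [Field K] [Algebra F K] [AddCommGroup V] [Module F V]
    [Module K V] where
  τ : K ≃ₐ[F] K
  ε : K
  ω : V → V → K
  tau_ε : τ ε = -ε
  ε_ne : ε ≠ 0
  tau_tau : ∀ x, τ (τ x) = x
  fixed : ∀ x, τ x = x → x ∈ Set.range (algebraMap F K)
  trace_eq : ∀ x, algebraMap F K (Algebra.trace F K x) = x + τ x
  two_ne : (2 : F) ≠ 0
  add_left : ∀ x y z, ω (x + y) z = ω x z + ω y z
  smul_left : ∀ (c : K) (x z : V), ω (c • x) z = c * ω x z
  add_right : ∀ x y z, ω x (y + z) = ω x y + ω x z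
  smul_right : ∀ (c : K) (x z : V), ω x (c • z) = τ c * ω x z
  skew : ∀ x y, ω y x = - τ (ω x y)
  nondeg : ∀ x, (∀ y, ω x y = 0) → x = 0
  M : Subgroup (V ≃ₗ[F] V)
  iso : ∀ g ∈ M, ∀ x y, Algebra.trace F K (ω (g x) (g y)) = Algebra.trace F K (ω x y)
  lin_mem : ∀ g : V ≃ₗ[F] V, (∀ (c : K) (x : V), g (c • x) = c • g x) →
    (∀ x y, ω (g x) (g y) = ω x y) → g ∈ M
  dim : 3 ≤ finrank K V

variable {F K V : Type*} [Field F] [Field K] [Algebra F K] [AddCommGroup V] [Module F V]
  [Module K V] [IsScalarTower F K V] [Finite F] [Finite K] [Finite V]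

namespace Setting

variable (S : Setting F K V)

/-- The trace form. -/
noncomputable def f (x y : V) : F := Algebra.trace F K (S.ω x y)

theorem f_eq (x y : V) : algebraMap F K (S.f x y) = S.ω x y + S.τ (S.ω x y) := S.trace_eq _

theorem two_ne' (S : Setting F K V) : (2 : K) ≠ 0 := fun h =>
  S.two_ne ((algebraMap F K).injective (by simpa [map_ofNat] using h))

theorem zero_left (x : V) : S.ω 0 x = 0 := by
  rw [← zero_smul K (0 : V), S.smul_left, zero_mul]

theorem zero_right (x : V) : S.ω x 0 = 0 := by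
  rw [← zero_smul K (0 : V), S.smul_right, map_zero, zero_mul]

theorem sub_left (x y z : V) : S.ω (x - y) z = S.ω x z - S.ω y z := by
  rw [sub_eq_add_neg, ← neg_one_smul K y, S.add_left, S.smul_left]; ring

theorem sub_right (x y z : V) : S.ω x (y - z) = S.ω x y - S.ω x z := by
  rw [sub_eq_add_neg, ← neg_one_smul K z, S.add_right, S.smul_right, map_neg, map_one]; ring

theorem tau_self (x : V) : S.τ (S.ω x x) = - S.ω x x := by
  conv_rhs => rw [S.skew x x, neg_neg]

theorem f_skew (x y : V) : S.f y x = - S.f x y :=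
  (algebraMap F K).injective (by
    rw [map_neg, S.f_eq, S.f_eq, S.skew x y, map_neg, S.tau_tau]; ring)

theorem f_self (x : V) : S.f x x = 0 := by
  have h : (2 : F) * S.f x x = 0 := by linear_combination S.f_skew x x
  exact (mul_eq_zero.1 h).resolve_left S.two_ne

theorem f_add_left (x y z : V) : S.f (x + y) z = S.f x z + S.f y z := by
  rw [f, S.add_left, map_add]; rfl

theorem f_add_right (x y z : V) : S.f x (y + z) = S.f x y + S.f x z := by
  rw [f, S.add_right, map_add]; rfl

theorem f_smul_left (a : F) (x z : V) : S.f (a • x) z = a * S.f x z := by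
  rw [f, ← algebraMap_smul K a x, S.smul_left, ← Algebra.smul_def, map_smul]; rfl

theorem f_smul_right (a : F) (x z : V) : S.f x (a • z) = a * S.f x z := by
  rw [f, ← algebraMap_smul K a z, S.smul_right, AlgEquiv.commutes, ← Algebra.smul_def, map_smul]; rfl

theorem f_sub_left (x y z : V) : S.f (x - y) z = S.f x z - S.f y z := by
  rw [f, S.sub_left, map_sub]; rfl

theorem f_iso {g : V ≃ₗ[F] V} (hg : g ∈ S.M) (x y : V) : S.f (g x) (g y) = S.f x y :=
  S.iso g hg x y

theorem f_inv {g : V ≃ₗ[F] V} (hg : g ∈ S.M) (x y : V) : S.f (g⁻¹ x) y = S.f x (g y) := by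
  rw [← S.f_iso hg, apply_inv_self']

theorem omega_zero_of_f {x y : V} (h : ∀ c : K, S.f (c • x) y = 0) : S.ω x y = 0 :=
  trace_ext (F := F) fun c => by
    have := h c
    rwa [f, S.smul_left, ← map_zero (Algebra.trace F K), ← mul_zero c] at this

theorem omega_zero_of_f' {x y : V} (h : ∀ c : K, S.f x (c • y) = 0) : S.ω x y = 0 := by
  rw [S.skew y x, S.omega_zero_of_f fun c => by rw [S.f_skew, h, neg_zero], map_zero, neg_zero]

theorem tau_eps_sq : S.τ (S.ε * S.ε) = S.ε * S.ε := by rw [map_mul, S.tau_ε]; ring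

theorem exists_norm_eq (t : F) : ∃ β : K, β * S.τ β = algebraMap F K t := by
  obtain ⟨D, hD⟩ := S.fixed _ S.tau_eps_sq
  have hD0 : D ≠ 0 := fun h => by
    rw [h, map_zero] at hD
    exact S.ε_ne (mul_self_eq_zero.1 hD.symm)
  obtain ⟨a, b, h⟩ := Cfsg.Agent.Lib.Subspaces.UnitaryForm.exists_quad_root (-t) 1 (-D)
    one_ne_zero (neg_ne_zero.2 hD0)
  refine ⟨algebraMap F K a + algebraMap F K b * S.ε, ?_⟩
  have ht : algebraMap F K t = algebraMap F K (a * a - D * (b * b)) := by
    congr 1; linear_combination -h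
  rw [ht, map_add, map_mul, S.tau_ε, AlgEquiv.commutes, AlgEquiv.commutes, map_sub, map_mul, map_mul,
    map_mul, hD]
  ring

/-- A multiple of an anisotropic vector with prescribed value. -/
theorem exists_scale {x : V} (hx : S.ω x x ≠ 0) {c : K} (hc : S.τ c = -c) :
    ∃ β : K, S.ω (β • x) (β • x) = c := by
  have hfix : S.τ (c / S.ω x x) = c / S.ω x x := by
    rw [map_div₀, hc, S.tau_self, neg_div_neg_eq]
  obtain ⟨t, ht⟩ := S.fixed _ hfix
  obtain ⟨β, hβ⟩ := S.exists_norm_eq t
  exact ⟨β, by rw [S.smul_left, S.smul_right, ← mul_assoc, hβ, ht, div_mul_cancel₀ _ hx]⟩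

/-- A totally isotropic set is orthogonal to itself. -/
theorem omega_zero_of_iso {P : Submodule K V} (h : ∀ x ∈ P, S.ω x x = 0) :
    ∀ x ∈ P, ∀ y ∈ P, S.ω x y = 0 := by
  have key : ∀ x ∈ P, ∀ y ∈ P, S.τ (S.ω x y) = S.ω x y := fun x hx y hy => by
    have h1 := h _ (P.add_mem hx hy)
    rw [S.add_left, S.add_right, S.add_right, h x hx, h y hy, S.skew x y] at h1
    linear_combination -h1
  intro x hx y hy
  have h1 := key _ (P.smul_mem S.ε hx) y hy
  rw [S.smul_left, map_mul, S.tau_ε, key x hx y hy] at h1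
  have h2 : (2 * S.ε) * S.ω x y = 0 := by linear_combination -h1
  exact (mul_eq_zero.1 h2).resolve_left (mul_ne_zero S.two_ne' S.ε_ne)

/-- The products with a family of vectors. -/
def prods {k : ℕ} (s : Fin k → V) : V →ₗ[K] (Fin k → K) where
  toFun x i := S.ω x (s i)
  map_add' x y := funext fun i => S.add_left x y (s i)
  map_smul' a x := funext fun i => S.smul_left a x (s i)

theorem mem_prods {k : ℕ} {s : Fin k → V} {x : V} :
    x ∈ LinearMap.ker (S.prods s) ↔ ∀ i, S.ω x (s i) = 0 :=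
  ⟨fun h i => congrFun (LinearMap.mem_ker.1 h) i, fun h => LinearMap.mem_ker.2 (funext h)⟩

theorem finrank_prods {k : ℕ} (s : Fin k → V) :
    finrank K V ≤ finrank K (LinearMap.ker (S.prods s)) + k := by
  haveI : FiniteDimensional K V := Module.Finite.of_finite
  have h1 := LinearMap.finrank_range_add_finrank_ker (S.prods s)
  have h2 := (LinearMap.range (S.prods s)).finrank_le
  rw [Module.finrank_fin_fun] at h2
  omega

theorem omega_sum_right {k : ℕ} (s : Fin k → V) (c : Fin k → K) {x : V} (hx : ∀ i, S.ω x (s i) = 0) :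
    S.ω x (∑ i, c i • s i) = 0 := by
  let R : V →+ K :=
    { toFun := S.ω x
      map_zero' := S.zero_right x
      map_add' := S.add_right x }
  show R _ = 0
  rw [map_sum]
  exact Finset.sum_eq_zero fun i _ => by
    show S.ω x (c i • s i) = 0
    rw [S.smul_right, hx i, mul_zero]

/-- Prescribed value on the orthogonal of a family of vectors admitting projections. -/
theorem exists_value_proj {k : ℕ} (s : Fin k → V) (hk : k < finrank K V)
    (hproj : ∀ y, ∃ c : Fin k → K, ∀ i, S.ω (y - ∑ j, c j • s j) (s i) = 0) {c : K} (hc : S.τ c = -c) :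
    ∃ x, (∀ i, S.ω x (s i) = 0) ∧ S.ω x x = c := by
  obtain ⟨x, hxP, hx⟩ : ∃ x ∈ LinearMap.ker (S.prods s), S.ω x x ≠ 0 := by
    by_contra h
    push Not at h
    obtain ⟨p, hp, hp0⟩ : ∃ p ∈ LinearMap.ker (S.prods s), p ≠ 0 := by
      refine (Submodule.ne_bot_iff _).1 fun e => ?_
      have := S.finrank_prods s
      rw [e, finrank_bot] at this
      omega
    refine hp0 (S.nondeg p fun y => ?_)
    obtain ⟨d, hd⟩ := hproj y
    have h1 := S.omega_zero_of_iso h p hp _ (S.mem_prods.2 hd)
    rwa [S.sub_right, S.omega_sum_right s d (S.mem_prods.1 hp), sub_zero] at h1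
  obtain ⟨β, hβ⟩ := S.exists_scale hx hc
  exact ⟨β • x, fun i => by rw [S.smul_left, S.mem_prods.1 hxP i, mul_zero], hβ⟩

/-- Prescribed value on the orthogonal of one vector. -/
theorem exists_value_one (v : V) {c : K} (hc : S.τ c = -c) :
    ∃ x, S.ω x v = 0 ∧ S.ω x x = c := by
  haveI : FiniteDimensional K V := Module.Finite.of_finite
  set P := LinearMap.ker (S.prods ![v])
  obtain ⟨x, hxP, hx⟩ : ∃ x ∈ P, S.ω x x ≠ 0 := by
    by_contra h
    push Not at h
    have hTI := S.omega_zero_of_iso h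
    let L : P → Submodule.dualAnnihilator P := fun y => ⟨
          { toFun := fun z => S.τ (S.ω y.1 z)
            map_add' := fun a b => by rw [S.add_right, map_add]
            map_smul' := fun a z => by rw [S.smul_right, map_mul, S.tau_tau]; rfl },
          (Submodule.mem_dualAnnihilator _).2 fun z hz => by
            show S.τ (S.ω y.1 z) = 0
            rw [hTI _ y.2 z hz, map_zero]⟩
    have hinj : Function.Injective L := by
      intro a b hab
      apply Subtype.ext
      rw [← sub_eq_zero]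
      refine S.nondeg _ fun z => ?_
      have h1 := LinearMap.congr_fun (congrArg Subtype.val hab) z
      rw [S.sub_left, sub_eq_zero]
      exact S.τ.injective h1
    haveI : Finite (Module.Dual K V) := Module.finite_of_finite K
    have h1 := Nat.card_le_card_of_injective L hinj
    rw [Module.natCard_eq_pow_finrank (K := K) (V := P),
      Module.natCard_eq_pow_finrank (K := K) (V := Submodule.dualAnnihilator P),
      Nat.pow_le_pow_iff_right Finite.one_lt_card] at h1
    have h2 := Subspace.finrank_add_finrank_dualAnnihilator_eq P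
    have h3 := S.dim
    have h4 : finrank K V ≤ finrank K P + 1 := S.finrank_prods ![v]
    omega
  obtain ⟨β, hβ⟩ := S.exists_scale hx hc
  exact ⟨β • x, by rw [S.smul_left, show S.ω x v = 0 from S.mem_prods.1 hxP 0, mul_zero], hβ⟩

theorem exists_partner {v : V} (hv : v ≠ 0) : ∃ y, S.ω v y = 1 := by
  obtain ⟨y, hy⟩ : ∃ y, S.ω v y ≠ 0 := by
    by_contra h
    push Not at h
    exact hv (S.nondeg v h)
  exact ⟨S.τ (S.ω v y)⁻¹ • y, by rw [S.smul_right, S.tau_tau, inv_mul_cancel₀ hy]⟩

/-- Two prescribed values. -/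
theorem exists_two {x w : V} (h : ∀ c : K, w ≠ c • x) (hx : x ≠ 0) (a b : K) :
    ∃ y, S.ω x y = a ∧ S.ω w y = b := by
  haveI : FiniteDimensional K V := Module.Finite.of_finite
  let φ : V →ₗ[K] (Fin 2 → K) :=
    { toFun := fun y => ![S.τ (S.ω x y), S.τ (S.ω w y)]
      map_add' := fun p q => by
        funext i; fin_cases i <;> simp [S.add_right]
      map_smul' := fun c p => by
        funext i; fin_cases i <;> simp [S.smul_right, S.tau_tau] }
  obtain ⟨p, hp⟩ := S.exists_partner hx
  have hw : w - S.ω w p • x ≠ 0 := sub_ne_zero.2 (h _)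
  obtain ⟨q, hq⟩ := S.exists_partner hw
  have hzero : S.ω (w - S.ω w p • x) p = 0 := by rw [S.sub_left, S.smul_left, hp]; ring
  set q' := q - S.τ (S.ω x q) • p with hq'
  have h1 : S.ω x q' = 0 := by rw [hq', S.sub_right, S.smul_right, S.tau_tau, hp]; ring
  have h2 : S.ω w q' = 1 := by
    have h3 : S.ω (w - S.ω w p • x) q' = 1 := by
      rw [hq', S.sub_right, S.smul_right, hq, hzero]; ring
    rwa [S.sub_left, S.smul_left, h1, mul_zero, sub_zero] at h3
  refine ⟨S.τ a • p + S.τ (b - a * S.ω w p) • q', ?_, ?_⟩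
  · rw [S.add_right, S.smul_right, S.smul_right, S.tau_tau, hp, h1]; ring
  · rw [S.add_right, S.smul_right, S.smul_right, S.tau_tau, S.tau_tau, h2]; ring

theorem tau_half (x : V) : S.τ (S.ω x x / 2) = -(S.ω x x / 2) := by
  rw [map_div₀, S.tau_self, map_ofNat, neg_div]

/-- Moving a vector along an isotropic one to make it isotropic. -/
theorem iso_adjust {x y : V} (hxx : S.ω x x = 0) (hxy : S.ω x y = 1) :
    S.ω (y - (S.ω y y / 2) • x) (y - (S.ω y y / 2) • x) = 0 := by
  have hyx : S.ω y x = -1 := by rw [S.skew x y, hxy, map_one]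
  rw [S.sub_left, S.sub_right, S.sub_right, S.smul_left, S.smul_left, S.smul_right, S.smul_right,
    hxx, hxy, hyx, S.tau_half]
  have := S.two_ne'
  field_simp
  ring

/-- An isotropic partner of an isotropic vector. -/
theorem exists_iso_partner {x : V} (hx : x ≠ 0) (hxx : S.ω x x = 0) :
    ∃ y, S.ω x y = 1 ∧ S.ω y y = 0 := by
  obtain ⟨y, hy⟩ := S.exists_partner hx
  exact ⟨_, by rw [S.sub_right, S.smul_right, hxx, mul_zero, sub_zero, hy], S.iso_adjust hxx hy⟩

/-- An isotropic partner of an isotropic vector with prescribed value at an orthogonal one. -/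
theorem exists_iso_two {x w : V} (h : ∀ c : K, w ≠ c • x) (hx : x ≠ 0) (hxx : S.ω x x = 0)
    (hwx : S.ω w x = 0) (b : K) : ∃ y, S.ω x y = 1 ∧ S.ω w y = b ∧ S.ω y y = 0 := by
  obtain ⟨y, hy, hwy⟩ := S.exists_two h hx 1 b
  exact ⟨_, by rw [S.sub_right, S.smul_right, hxx, mul_zero, sub_zero, hy],
    by rw [S.sub_right, S.smul_right, hwx, mul_zero, sub_zero, hwy], S.iso_adjust hxx hy⟩

/-- An isotropic vector between two non-orthogonal isotropic ones. -/
theorem exists_iso_mid {p q : V} (hp : S.ω p p = 0) (hq : S.ω q q = 0) (hpq : S.ω p q ≠ 0) :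
    ∃ y, S.ω p y = 1 ∧ S.ω y q = 1 ∧ S.ω y y = 0 := by
  obtain ⟨μ, hμ⟩ : ∃ μ, μ = S.ω p q := ⟨_, rfl⟩
  have hμ0 : μ ≠ 0 := hμ ▸ hpq
  have hτμ : S.τ μ ≠ 0 := fun e => hμ0 (by simpa using e)
  have hqp : S.ω q p = - S.τ μ := by rw [S.skew p q, hμ]
  obtain ⟨s, hs, hss⟩ := S.exists_value_proj ![p, q] (by have := S.dim; omega)
    (fun y => ⟨![S.ω y q / μ, -(S.ω y p / S.τ μ)], fun i => by
      fin_cases i <;>
      · simp only [Fin.zero_eta, Fin.mk_one, Fin.isValue, Fin.sum_univ_two, Matrix.cons_val_zero,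
          Matrix.cons_val_one, S.sub_left, S.add_left, S.smul_left, hp, hq, hqp, ← hμ]
        field_simp
        ring⟩) (c := (S.τ μ)⁻¹ - μ⁻¹) (by rw [map_sub, map_inv₀, map_inv₀, S.tau_tau]; ring)
  have hsp : S.ω s p = 0 := hs 0
  have hsq : S.ω s q = 0 := hs 1
  have hps : S.ω p s = 0 := by rw [S.skew s p, hsp, map_zero, neg_zero]
  have hqs : S.ω q s = 0 := by rw [S.skew s q, hsq, map_zero, neg_zero]
  refine ⟨μ⁻¹ • p + (S.τ μ)⁻¹ • q + s, ?_, ?_, ?_⟩
  · rw [S.add_right, S.add_right, S.smul_right, S.smul_right, hp, hps, map_inv₀, map_inv₀,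
      S.tau_tau, ← hμ]
    field_simp
    ring
  · rw [S.add_left, S.add_left, S.smul_left, S.smul_left, hq, hsq, ← hμ]
    field_simp
    ring
  · simp only [S.add_left, S.add_right, S.smul_left, S.smul_right, hp, hq, hsp, hsq, hps, hqs, hqp,
      hss, map_inv₀, S.tau_tau, ← hμ]
    field_simp
    ring

/-- An isotropic vector with product one against an anisotropic vector. -/
theorem exists_iso_aniso {v : V} (hv : S.ω v v ≠ 0) : ∃ y, S.ω v y = 1 ∧ S.ω y y = 0 := by
  obtain ⟨z, hz, hzz⟩ := S.exists_value_one v (c := (S.ω v v)⁻¹)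
    (by rw [map_inv₀, S.tau_self, inv_neg])
  have hvz : S.ω v z = 0 := by rw [S.skew z v, hz, map_zero, neg_zero]
  refine ⟨(-(S.ω v v)⁻¹) • v + z, ?_, ?_⟩
  · rw [S.add_right, S.smul_right, hvz, map_neg, map_inv₀, S.tau_self, inv_neg, neg_neg,
      inv_mul_cancel₀ hv, add_zero]
  · rw [S.add_left, S.add_right, S.add_right, S.smul_left, S.smul_left, S.smul_right, S.smul_right,
      hvz, hz, hzz, map_neg, map_inv₀, S.tau_self, inv_neg, neg_neg]
    field_simp
    ring

/-- Non-zero isotropic vectors are connected by steps of product one. -/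
theorem iso_spread (P : V → Prop)
    (step : ∀ p q, P p → S.ω p p = 0 → S.ω q q = 0 → S.ω p q = 1 → P q)
    {p q : V} (hp0 : p ≠ 0) (hpp : S.ω p p = 0) (hP : P p) (hq0 : q ≠ 0) (hqq : S.ω q q = 0) : P q := by
  by_cases hpq : S.ω p q = 0
  · by_cases hind : ∀ c : K, q ≠ c • p
    · obtain ⟨y, hpy, hqy, hyy⟩ := S.exists_iso_two hind hp0 hpp
        (by rw [S.skew p q, hpq, map_zero, neg_zero]) (-1)
      exact step y q (step p y hP hpp hyy hpy) hyy hqq
        (by rw [S.skew q y, hqy, map_neg, map_one, neg_neg])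
    · push Not at hind
      obtain ⟨c, rfl⟩ := hind
      have hc : c ≠ 0 := fun h => hq0 (by rw [h, zero_smul])
      obtain ⟨y, hpy, hyy⟩ := S.exists_iso_partner hp0 hpp
      have hy := step p y hP hpp hyy hpy
      obtain ⟨y', h1, h2, h3⟩ := S.exists_iso_mid hyy hqq (q := c • p) (by
        rw [S.smul_right, S.skew p y, hpy, map_one]
        exact mul_ne_zero (fun h => hc (by simpa using h)) (neg_ne_zero.2 one_ne_zero))
      exact step y' _ (step y y' hy hyy h3 h1) h3 hqq h2
  · obtain ⟨y, hpy, hyq, hyy⟩ := S.exists_iso_mid hpp hqq hpq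
    exact step y q (step p y hP hpp hyy hpy) hyy hqq hyq

/-- The nilpotent part of a linear transvection. -/
noncomputable def kLin (e : V) (t : F) : V →ₗ[F] V where
  toFun z := (algebraMap F K t * S.ω z e) • e
  map_add' a b := by rw [S.add_left, mul_add, add_smul]
  map_smul' a z := by
    rw [← algebraMap_smul K a z, S.smul_left, RingHom.id_apply, ← algebraMap_smul K a, smul_smul,
      mul_left_comm]

open Classical in
/-- The linear transvection on an isotropic vector. -/
noncomputable def kroot (e : V) (t : F) : V ≃ₗ[F] V :=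
  if h : S.ω e e = 0 then unip (S.kLin e t) fun z => by
    show (algebraMap F K t * S.ω ((algebraMap F K t * S.ω z e) • e) e) • e = 0
    rw [S.smul_left, h, mul_zero, mul_zero, zero_smul]
  else 1

theorem kroot_apply {e : V} (he : S.ω e e = 0) (t : F) (z : V) :
    S.kroot e t z = z + (algebraMap F K t * S.ω z e) • e := by
  rw [kroot, dif_pos he]; rfl

theorem kroot_mem {e : V} (he : S.ω e e = 0) (t : F) : S.kroot e t ∈ S.M := by
  refine S.lin_mem _ (fun c x => ?_) fun x y => ?_
  · rw [S.kroot_apply he, S.kroot_apply he, S.smul_left, smul_add, smul_smul, mul_left_comm]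
  · rw [S.kroot_apply he, S.kroot_apply he, S.add_left, S.add_right, S.add_right, S.smul_left,
      S.smul_left, S.smul_right, S.smul_right, he, map_mul, AlgEquiv.commutes, S.skew y e]
    ring

theorem tLin_sq (v : V) (a : F) (z : V) : (a * S.f ((a * S.f z v) • v) v) • v = 0 := by
  rw [S.f_smul_left, S.f_self, mul_zero, mul_zero, zero_smul]

/-- The transvections of the trace form. -/
noncomputable def tLin (v : V) (a : F) : V →ₗ[F] V where
  toFun z := (a * S.f z v) • v
  map_add' p q := by rw [S.f_add_left, mul_add, add_smul]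
  map_smul' c z := by rw [S.f_smul_left, RingHom.id_apply, smul_smul, mul_left_comm]

/-- The transvection `z ↦ z + a f(z, v) v`. -/
noncomputable def tf (v : V) (a : F) : V ≃ₗ[F] V := unip (S.tLin v a) (S.tLin_sq v a)

theorem tf_apply (v : V) (a : F) (z : V) : S.tf v a z = z + (a * S.f z v) • v := rfl

/-- All transvections with this centre. -/
def InT (v : V) : Prop := ∀ a : F, S.tf v a ∈ S.M

theorem conj_tf {g : V ≃ₗ[F] V} (hg : g ∈ S.M) (v : V) (a : F) :
    g * S.tf v a * g⁻¹ = S.tf (g v) a := LinearEquiv.ext fun z => by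
  show g (S.tf v a (g⁻¹ z)) = _
  rw [S.tf_apply, map_add, apply_inv_self', map_smul, S.f_inv hg]
  rfl

theorem inT_map {g : V ≃ₗ[F] V} (hg : g ∈ S.M) {v : V} (hv : S.InT v) : S.InT (g v) := fun a => by
  rw [← S.conj_tf hg]; exact S.M.mul_mem (S.M.mul_mem hg (hv a)) (S.M.inv_mem hg)

theorem inT_smul {v : V} (hv : S.InT v) (c : F) : S.InT (c • v) := fun a => by
  have h : S.tf (c • v) a = S.tf v (a * c ^ 2) := LinearEquiv.ext fun z => by
    rw [S.tf_apply, S.tf_apply, S.f_smul_right, smul_smul]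
    congr 2; ring
  rw [h]; exact hv _

theorem inT_span {v w : V} (hv : S.InT v) (hw : S.InT w) (h : S.f v w ≠ 0) (α β : F) :
    S.InT (α • v + β • w) := by
  by_cases hα : α = 0
  · rw [hα, zero_smul, zero_add]; exact S.inT_smul hw β
  have h1 := S.inT_smul (S.inT_map (hw (β / α / S.f v w)) hv) α
  rwa [S.tf_apply, div_mul_cancel₀ _ h, smul_add, smul_smul, mul_div_cancel₀ _ hα] at h1

/-- One isotropic step. -/
theorem inT_step {x w : V} (hx : S.InT x) (hw : S.ω w w = 0) {t : F} (ht : t ≠ 0)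
    (hxw : S.ω x w = algebraMap F K t) : S.InT w := by
  have h1 := S.inT_map (S.kroot_mem hw 1) hx
  have hval : S.kroot w 1 x = x + t • w := by
    rw [S.kroot_apply hw, map_one, one_mul, hxw, algebraMap_smul]
  rw [hval] at h1
  have hxx : S.f x (x + t • w) ≠ 0 := by
    rw [S.f_add_right, S.f_self, zero_add, S.f_smul_right]
    refine mul_ne_zero ht fun h => ?_
    have h2 := S.f_eq x w
    rw [h, map_zero, hxw, AlgEquiv.commutes, ← map_add, eq_comm, map_eq_zero, ← two_mul] at h2
    exact mul_ne_zero S.two_ne ht h2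
  have h2 := S.inT_span hx h1 hxx (-t⁻¹) t⁻¹
  rwa [smul_add, smul_smul, inv_mul_cancel₀ ht, one_smul, neg_smul, neg_add_cancel_left] at h2

/-- From one anisotropic centre to all centres. -/
theorem inT_all {x : V} (hxx : S.ω x x ≠ 0) (hx : S.InT x) (v : V) : S.InT v := by
  obtain ⟨p, hxp, hpp⟩ := S.exists_iso_aniso hxx
  have hp0 : p ≠ 0 := fun h => by rw [h, S.zero_right] at hxp; exact zero_ne_one hxp
  have hp : S.InT p := S.inT_step hx hpp one_ne_zero (by rw [hxp, map_one])
  have hall : ∀ q : V, S.ω q q = 0 → S.InT q := by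
    intro q hq
    by_cases hq0 : q = 0
    · intro a
      have h : S.tf q a = 1 := LinearEquiv.ext fun z => by
        rw [S.tf_apply, hq0, smul_zero, add_zero]; rfl
      rw [h]; exact S.M.one_mem
    exact S.iso_spread S.InT (fun a b ha _ hbb hab =>
      S.inT_step ha hbb one_ne_zero (by rw [hab, map_one])) hp0 hpp hp hq0 hq
  by_cases hvv : S.ω v v = 0
  · exact hall v hvv
  obtain ⟨y, hvy, hyy⟩ := S.exists_iso_aniso hvv
  have hyv : S.ω y v = -1 := by rw [S.skew v y, hvy, map_one]
  set α : K := 1 - S.ω v v / 2 with hα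
  have htα : S.τ α = 1 + S.ω v v / 2 := by
    rw [hα, map_sub, map_one, map_div₀, S.tau_self, map_ofNat]; ring
  have h1 : S.InT (α • y) := hall _ (by rw [S.smul_left, S.smul_right, hyy, mul_zero, mul_zero])
  have h2 : S.InT (v - α • y) := hall _ (by
    rw [S.sub_left, S.sub_right, S.sub_right, S.smul_left, S.smul_left, S.smul_right, S.smul_right,
      hvy, hyv, hyy, htα, hα]
    have := S.two_ne'
    field_simp
    ring)
  have hne : S.f (α • y) (v - α • y) ≠ 0 := by
    intro h
    have h3 := S.f_eq (α • y) (v - α • y)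
    rw [h, map_zero, S.sub_right, S.smul_left, S.smul_left, S.smul_right, hyy, mul_zero, mul_zero,
      sub_zero, hyv, map_mul, map_neg, map_one, htα, hα] at h3
    exact S.two_ne' (by linear_combination h3)
  have h4 := S.inT_span h1 h2 hne 1 1
  rwa [one_smul, one_smul, add_sub_cancel] at h4

theorem exists_decomp (S : Setting F K V) (c : K) :
    ∃ a b : F, c = algebraMap F K a + algebraMap F K b * S.ε := by
  obtain ⟨a, ha⟩ := S.fixed ((c + S.τ c) / 2) (by
    rw [map_div₀, map_add, S.tau_tau, map_ofNat, add_comm])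
  obtain ⟨b, hb⟩ := S.fixed ((c - S.τ c) / (2 * S.ε)) (by
    rw [map_div₀, map_sub, S.tau_tau, map_mul, S.tau_ε, map_ofNat, mul_neg, div_neg, ← neg_div,
      neg_sub])
  refine ⟨a, b, ?_⟩
  rw [ha, hb]
  have := S.two_ne'
  have := S.ε_ne
  field_simp
  ring

theorem f_eps {x : V} (h : S.ω x x = 0) : S.f (S.ε • x) x = 0 := by
  rw [f, S.smul_left, h, mul_zero, map_zero]

/-- **Step 1.** An isotropic line and the image of another one pair with rank one. -/
theorem exists_pair (hnot : ∃ g ∈ S.M, ¬ IsSemi F K g) :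
    ∃ g ∈ S.M, ∃ e e' : V, S.ω e e = 0 ∧ e ≠ 0 ∧ S.ω e' e' = 0 ∧ S.ω (g⁻¹ e) e' = 0 ∧
      S.ω (g⁻¹ (S.ε • e)) e' ≠ 0 := by
  by_contra hcon
  push Not at hcon
  obtain ⟨g, hg, hns⟩ := hnot
  have key' : ∀ h ∈ S.M, ∀ e y : V, S.ω e e = 0 → e ≠ 0 → S.ω y y = 0 → S.ω (h e) y = 0 →
      S.ω (h (S.ε • e)) y = 0 := fun h hh e y hee he hy hy' => by
    have := hcon h⁻¹ (S.M.inv_mem hh) e y hee he hy (by rwa [inv_inv])
    rwa [inv_inv] at this
  -- orthogonality to isotropic vectors spreads
  have hspread : ∀ b y x : V, S.ω (y + x) (y + x) = 0 → S.ω (y - x) (y - x) = 0 →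
      (∀ z, S.ω z z = 0 → z = y + x ∨ z = y - x → S.ω b z = 0) → S.ω b y = 0 := by
    intro b y x hp hm hb
    have h1 := hb _ hp (Or.inl rfl)
    have h2 := hb _ hm (Or.inr rfl)
    rw [S.add_right] at h1
    rw [S.sub_right] at h2
    have h3 : (2 : K) * S.ω b y = 0 := by linear_combination h1 + h2
    exact (mul_eq_zero.1 h3).resolve_left S.two_ne'
  have hpm : ∀ y x : V, S.ω x y = 0 → S.ω x x = - S.ω y y →
      S.ω (y + x) (y + x) = 0 ∧ S.ω (y - x) (y - x) = 0 := fun y x hxy hxx => by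
    have hyx : S.ω y x = 0 := by rw [S.skew x y, hxy, map_zero, neg_zero]
    constructor
    · rw [S.add_left, S.add_right, S.add_right, hxy, hyx, hxx]; ring
    · rw [S.sub_left, S.sub_right, S.sub_right, hxy, hyx, hxx]; ring
  have hyperp : ∀ a b : V, a ≠ 0 → (∀ y, S.ω a y = 0 → S.ω b y = 0) → ∃ φ : K, b = φ • a := by
    intro a b ha key
    by_contra hne
    push Not at hne
    obtain ⟨y, hy1, hy2⟩ := S.exists_two hne ha 0 1
    rw [key y hy1] at hy2
    exact zero_ne_one hy2
  -- images of isotropic vectors are isotropic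
  have hiso : ∀ h ∈ S.M, ∀ e : V, S.ω e e = 0 → e ≠ 0 → S.ω (h e) (h e) = 0 := by
    intro h hh e hee he
    by_contra haa
    obtain ⟨φ, hφ⟩ := hyperp (h e) (h (S.ε • e)) (fun h0 => he (h.map_eq_zero_iff.1 h0)) fun y hay => by
      by_cases hyy : S.ω y y = 0
      · exact key' h hh e y hee he hyy hay
      have hya : S.ω y (h e) = 0 := by rw [S.skew (h e) y, hay, map_zero, neg_zero]
      obtain ⟨x, hx, hxx⟩ := S.exists_value_proj ![h e, y] (by have := S.dim; omega)
        (fun z => ⟨![S.ω z (h e) / S.ω (h e) (h e), S.ω z y / S.ω y y], fun i => by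
          fin_cases i <;>
          · simp only [Fin.zero_eta, Fin.mk_one, Fin.isValue, Fin.sum_univ_two, Matrix.cons_val_zero,
              Matrix.cons_val_one, S.sub_left, S.add_left, S.smul_left, hay, hya]
            field_simp
            ring⟩) (c := - S.ω y y) (by rw [map_neg, S.tau_self])
      have hax : S.ω (h e) x = 0 := by
        rw [S.skew x (h e), show S.ω x (h e) = 0 from hx 0, map_zero, neg_zero]
      obtain ⟨hp, hm⟩ := hpm y x (hx 1) hxx
      refine hspread _ y x hp hm fun z hz hz' => key' h hh e z hee he hz ?_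
      rcases hz' with rfl | rfl
      · rw [S.add_right, hay, hax, add_zero]
      · rw [S.sub_right, hay, hax, sub_zero]
    have hmove : S.τ φ ≠ φ := fun hfix => by
      obtain ⟨a, ha⟩ := S.fixed _ hfix
      rw [← ha, algebraMap_smul, ← map_smul] at hφ
      have h2 := smul_left_injective K he
        (show S.ε • e = algebraMap F K a • e by rw [algebraMap_smul]; exact h.injective hφ)
      have h3 := S.tau_ε
      rw [h2, AlgEquiv.commutes] at h3
      have h4 : (2 : K) * algebraMap F K a = 0 := by linear_combination h3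
      exact S.ε_ne (h2.trans ((mul_eq_zero.1 h4).resolve_left S.two_ne'))
    have h1 := S.f_eq (φ • h e) (h e)
    rw [← hφ, S.f_iso hh, S.f_eps hee, map_zero, hφ, S.smul_left, map_mul, S.tau_self] at h1
    have h2 : (φ - S.τ φ) * S.ω (h e) (h e) = 0 := by linear_combination -h1
    exact haa ((mul_eq_zero.1 h2).resolve_left (sub_ne_zero.2 (Ne.symm hmove)))
  -- lines go into lines
  have hline : ∀ h ∈ S.M, ∀ e : V, S.ω e e = 0 → e ≠ 0 →
      ∃ φ : K, h (S.ε • e) = φ • h e := by
    intro h hh e hee he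
    obtain ⟨a, ha⟩ : ∃ a, a = h e := ⟨_, rfl⟩
    obtain ⟨b, hb⟩ : ∃ b, b = h (S.ε • e) := ⟨_, rfl⟩
    have ha0 : a ≠ 0 := fun h0 => he (h.map_eq_zero_iff.1 (ha.symm.trans h0))
    have haa : S.ω a a = 0 := ha ▸ hiso h hh e hee he
    have hbb : S.ω b b = 0 := hb ▸ hiso h hh _
      (by rw [S.smul_left, S.smul_right, hee, mul_zero, mul_zero]) (smul_ne_zero S.ε_ne he)
    have hba : S.ω b a = 0 := hb ▸ key' h hh e a hee he haa (ha ▸ haa)
    rw [← ha, ← hb]
    by_cases hd : finrank K V = 3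
    · by_contra hne
      push Not at hne
      haveI : FiniteDimensional K V := Module.Finite.of_finite
      have hsurj : LinearMap.range (S.prods ![a, b]) = ⊤ := by
        refine LinearMap.range_eq_top.2 fun t => ?_
        obtain ⟨y, h1, h2⟩ := S.exists_two hne ha0 (-S.τ (t 0)) (-S.τ (t 1))
        refine ⟨y, funext fun i => ?_⟩
        fin_cases i
        · show S.ω y a = t 0
          rw [S.skew a y, h1, map_neg, S.tau_tau, neg_neg]
        · show S.ω y b = t 1
          rw [S.skew b y, h2, map_neg, S.tau_tau, neg_neg]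
      have h1 := LinearMap.finrank_range_add_finrank_ker (S.prods ![a, b])
      rw [hsurj, finrank_top, Module.finrank_fin_fun] at h1
      have hle : Submodule.span K {a} < LinearMap.ker (S.prods ![a, b]) := by
        refine lt_of_le_of_ne ((Submodule.span_singleton_le_iff_mem _ _).2 (S.mem_prods.2 fun i => ?_))
          fun heq => ?_
        · fin_cases i
          · exact haa
          · show S.ω a b = 0
            rw [S.skew b a, hba, map_zero, neg_zero]
        · have hbm : b ∈ Submodule.span K {a} := by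
            rw [heq]
            refine S.mem_prods.2 fun i => ?_
            fin_cases i
            · exact hba
            · exact hbb
          obtain ⟨c, hc⟩ := Submodule.mem_span_singleton.1 hbm
          exact hne c hc.symm
      have h2 := Submodule.finrank_lt_finrank_of_lt hle
      rw [finrank_span_singleton ha0] at h2
      omega
    refine hyperp a b ha0 fun y hay => ?_
    obtain ⟨a', haa', ha'a'⟩ := S.exists_iso_partner ha0 haa
    obtain ⟨y1, hy1⟩ : ∃ y1, y1 = y - S.ω y a' • a := ⟨_, rfl⟩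
    have hby : S.ω b y = S.ω b y1 := by rw [hy1, S.sub_right, S.smul_right, hba, mul_zero, sub_zero]
    have hay1 : S.ω a y1 = 0 := by rw [hy1, S.sub_right, S.smul_right, hay, haa, mul_zero, sub_zero]
    rw [hby]
    by_cases hyy : S.ω y1 y1 = 0
    · rw [hb]; exact key' h hh e y1 hee he hyy (ha ▸ hay1)
    have hy1a : S.ω y1 a = 0 := by rw [S.skew a y1, hay1, map_zero, neg_zero]
    have hy1a' : S.ω y1 a' = 0 := by rw [hy1, S.sub_left, S.smul_left, haa', mul_one, sub_self]
    have ha'y1 : S.ω a' y1 = 0 := by rw [S.skew y1 a', hy1a', map_zero, neg_zero]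
    have ha'a : S.ω a' a = -1 := by rw [S.skew a a', haa', map_one]
    obtain ⟨x, hx, hxx⟩ := S.exists_value_proj ![a, a', y1] (by have := S.dim; omega)
      (fun z => ⟨![S.ω z a', -S.ω z a, S.ω z y1 / S.ω y1 y1], fun i => by
        fin_cases i <;>
        · simp only [Fin.zero_eta, Fin.mk_one, Fin.reduceFinMk, Fin.isValue, Fin.sum_univ_three,
            Matrix.cons_val_zero, Matrix.cons_val_one, Matrix.cons_val_two, Matrix.head_cons, Matrix.tail_cons,
            S.sub_left, S.add_left, S.smul_left, haa, haa', ha'a, ha'a', hay1, hy1a, hy1a', ha'y1]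
          field_simp
          ring⟩) (c := - S.ω y1 y1) (by rw [map_neg, S.tau_self])
    have hax : S.ω a x = 0 := by
      rw [S.skew x a, show S.ω x a = 0 from hx 0, map_zero, neg_zero]
    obtain ⟨hp, hm⟩ := hpm y1 x (hx 2) hxx
    refine hspread _ y1 x hp hm fun z hz hz' => ?_
    rw [hb]
    refine key' h hh e z hee he hz ?_
    rw [← ha]
    rcases hz' with rfl | rfl
    · rw [S.add_right, hay1, hax, add_zero]
    · rw [S.sub_right, hay1, hax, sub_zero]
  have hline' : ∀ h ∈ S.M, ∀ e : V, S.ω e e = 0 → e ≠ 0 → ∀ c : K, ∃ d : K, h (c • e) = d • h e := by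
    intro h hh e hee he c
    obtain ⟨φ, hφ⟩ := hline h hh e hee he
    obtain ⟨a, b, rfl⟩ := S.exists_decomp c
    exact ⟨algebraMap F K a + algebraMap F K b * φ, by
      rw [add_smul, mul_smul, algebraMap_smul, algebraMap_smul, map_add, map_smul, map_smul, hφ,
        add_smul, mul_smul, algebraMap_smul, algebraMap_smul]⟩
  -- one multiplier
  have hsame : ∀ e1 e2 : V, S.ω e1 e1 = 0 → S.ω e2 e2 = 0 → S.ω e1 e2 = 1 →
      ∀ φ : K, g (S.ε • e1) = φ • g e1 → g (S.ε • e2) = φ • g e2 := by
    intro e1 e2 h11 h22 h12 φ1 hφ1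
    have hne1 : e1 ≠ 0 := fun h => by rw [h, S.zero_left] at h12; exact zero_ne_one h12
    have hne2 : e2 ≠ 0 := fun h => by rw [h, S.zero_right] at h12; exact zero_ne_one h12
    have hind : ∀ c : K, e2 ≠ c • e1 := fun c h => by
      rw [h, S.smul_right, h11, mul_zero] at h12; exact zero_ne_one h12
    obtain ⟨φ2, hφ2⟩ := hline g hg e2 h22 hne2
    have hind' : ∀ d : K, g e2 ≠ d • g e1 := by
      intro d hd
      obtain ⟨c, hc⟩ := hline' g⁻¹ (S.M.inv_mem hg) (g e1) (hiso g hg e1 h11 hne1)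
        (fun h0 => hne1 (g.map_eq_zero_iff.1 h0)) d
      rw [← hd, inv_apply_self, inv_apply_self] at hc
      exact hind c hc
    have h21 : S.ω e2 e1 = -1 := by rw [S.skew e1 e2, h12, map_one]
    obtain ⟨φ3, hφ3⟩ := hline g hg (e1 + e2)
      (by rw [S.add_left, S.add_right, S.add_right, h11, h12, h21, h22]; ring) (fun h0 => by
        refine hind (-1) ?_
        rw [neg_one_smul, eq_neg_iff_add_eq_zero, add_comm]; exact h0)
    rw [smul_add, map_add, map_add, hφ1, hφ2, smul_add] at hφ3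
    have h5 : (φ2 - φ3) • g e2 = (φ3 - φ1) • g e1 := by
      rw [sub_smul, sub_smul, sub_eq_sub_iff_add_eq_add, add_comm, hφ3, add_comm]
    have h6 : φ2 = φ3 := by
      by_contra h7
      apply hind' ((φ2 - φ3)⁻¹ * (φ3 - φ1))
      rw [mul_smul, ← h5, inv_smul_smul₀ (sub_ne_zero.2 h7)]
    rw [h6, sub_self, zero_smul, eq_comm, smul_eq_zero] at h5
    have h7 := sub_eq_zero.1 (h5.resolve_right fun h0 => hne1 (g.map_eq_zero_iff.1 h0))
    rw [hφ2, h6, h7]
  obtain ⟨p, -, hpp⟩ := S.exists_value_one (0 : V) (c := S.ε) S.tau_ε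
  obtain ⟨e0, he0p, he00⟩ := S.exists_iso_aniso (show S.ω p p ≠ 0 by rw [hpp]; exact S.ε_ne)
  have he0 : e0 ≠ 0 := fun h => by rw [h, S.zero_right] at he0p; exact zero_ne_one he0p
  obtain ⟨φ, hφ⟩ := hline g hg e0 he00 he0
  have hall : ∀ e : V, S.ω e e = 0 → g (S.ε • e) = φ • g e := by
    intro e hee
    by_cases he : e = 0
    · simp [he]
    exact S.iso_spread (fun e => g (S.ε • e) = φ • g e)
      (fun p q hp hpp hqq hpq => hsame p q hpp hqq hpq φ hp) he0 he00 hφ he hee
  have hevery : ∀ v : V, g (S.ε • v) = φ • g v := by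
    intro v
    obtain ⟨x, hxv, hxx⟩ := S.exists_value_one v (c := - S.ω v v) (by rw [map_neg, S.tau_self])
    have hvx : S.ω v x = 0 := by rw [S.skew x v, hxv, map_zero, neg_zero]
    have h1 := hall (v + x) (by rw [S.add_left, S.add_right, S.add_right, hxv, hvx, hxx]; ring)
    have h2 := hall (v - x) (by rw [S.sub_left, S.sub_right, S.sub_right, hxv, hvx, hxx]; ring)
    rw [smul_add, map_add, map_add, smul_add] at h1
    rw [smul_sub, map_sub, map_sub, smul_sub] at h2
    have h3 : (2 : K) • (g (S.ε • v)) = (2 : K) • (φ • g v) := by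
      rw [two_smul, two_smul]
      calc g (S.ε • v) + g (S.ε • v)
          = (g (S.ε • v) + g (S.ε • x)) + (g (S.ε • v) - g (S.ε • x)) := by abel
        _ = (φ • g v + φ • g x) + (φ • g v - φ • g x) := by rw [h1, h2]
        _ = _ := by abel
    exact smul_right_injective V S.two_ne' h3
  refine hns fun c => ?_
  obtain ⟨a, b, rfl⟩ := S.exists_decomp c
  exact ⟨algebraMap F K a + algebraMap F K b * φ, fun v => by
    rw [add_smul, mul_smul, algebraMap_smul, algebraMap_smul, map_add, map_smul, map_smul, hevery,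
      add_smul, mul_smul, algebraMap_smul, algebraMap_smul]⟩

theorem tf_iso (v : V) (a : F) (x y : V) : S.f (S.tf v a x) (S.tf v a y) = S.f x y := by
  rw [S.tf_apply, S.tf_apply, S.f_add_left, S.f_add_right, S.f_add_right, S.f_smul_left,
    S.f_smul_left, S.f_smul_right, S.f_smul_right, S.f_self, S.f_skew y v]
  ring

theorem tf_fix {v z : V} (h : S.f z v = 0) (a : F) : S.tf v a z = z := by
  rw [S.tf_apply, h, mul_zero, zero_smul, add_zero]

theorem tf_add (v : V) (a b : F) : S.tf v a * S.tf v b = S.tf v (a + b) := LinearEquiv.ext fun z => by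
  show S.tf v a (S.tf v b z) = _
  rw [S.tf_apply, S.tf_apply, S.tf_apply, S.f_add_left, S.f_smul_left, S.f_self, add_assoc,
    ← add_smul]
  congr 2; ring

theorem tf_zero (v : V) : S.tf v 0 = 1 := LinearEquiv.ext fun z => by
  rw [S.tf_apply, zero_mul, zero_smul, add_zero]; rfl

/-- Isometries of the trace form fixing `e`, and the orthogonal of `u, v`, that lie in the group up
to a transvection centred at `e`. -/
noncomputable def planeGroup (e u v : V) : Subgroup (V ≃ₗ[F] V) where
  carrier := {k | (∀ x y, S.f (k x) (k y) = S.f x y) ∧ k e = e ∧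
    (∀ z, S.f z u = 0 → S.f z v = 0 → k z = z) ∧ ∃ a, S.tf e a * k ∈ S.M}
  mul_mem' := by
    rintro k l ⟨hk, hke, hkz, a, ha⟩ ⟨hl, hle, hlz, b, hb⟩
    refine ⟨fun x y => (hk _ _).trans (hl x y), (congrArg k hle).trans hke,
      fun z h1 h2 => (congrArg k (hlz z h1 h2)).trans (hkz z h1 h2), a + b, ?_⟩
    have hc : k * S.tf e b = S.tf e b * k := LinearEquiv.ext fun z => by
      show k (S.tf e b z) = S.tf e b (k z)
      have h := hk z e
      rw [hke] at h
      rw [S.tf_apply, S.tf_apply, map_add, map_smul, hke, h]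
    have h := S.M.mul_mem ha hb
    rwa [show S.tf e a * k * (S.tf e b * l) = S.tf e (a + b) * (k * l) by
      rw [← S.tf_add]
      calc S.tf e a * k * (S.tf e b * l) = S.tf e a * (k * S.tf e b) * l := by group
        _ = _ := by rw [hc]; group] at h
  one_mem' := ⟨fun _ _ => rfl, rfl, fun _ _ _ => rfl, 0, by
    rw [S.tf_zero, one_mul]; exact S.M.one_mem⟩
  inv_mem' := by
    rintro k ⟨hk, hke, hkz, a, ha⟩
    have hk' : ∀ x y, S.f (k⁻¹ x) (k⁻¹ y) = S.f x y := fun x y => by
      rw [← hk, apply_inv_self', apply_inv_self']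
    have hke' : k⁻¹ e = e := k.injective (by rw [apply_inv_self', hke])
    refine ⟨hk', hke', fun z h1 h2 => k.injective (by rw [apply_inv_self', hkz z h1 h2]), -a, ?_⟩
    have h := S.M.inv_mem ha
    rwa [show (S.tf e a * k)⁻¹ = S.tf e (-a) * k⁻¹ by
      refine inv_eq_of_mul_eq_one_right (LinearEquiv.ext fun z => ?_)
      show S.tf e a (k (S.tf e (-a) (k⁻¹ z))) = z
      have hz := hk' z e
      rw [hke'] at hz
      rw [S.tf_apply e (-a), map_add, map_smul, apply_inv_self', hke, hz]
      rw [S.tf_apply, S.f_add_left, S.f_smul_left, S.f_self, mul_zero, add_zero, neg_mul, neg_smul]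
      abel] at h

/-- The map `z ↦ z + f(z, r) w + f(z, w) r`. -/
noncomputable def radF (r w : V) (z : V) : V := z + S.f z r • w + S.f z w • r

theorem exists_kcomm (hpair : ∃ g ∈ S.M, ∃ e e' : V, S.ω e e = 0 ∧ e ≠ 0 ∧ S.ω e' e' = 0 ∧
      S.ω (g⁻¹ e) e' = 0 ∧ S.ω (g⁻¹ (S.ε • e)) e' ≠ 0) :
    ∃ r : V, S.ω r r ≠ 0 ∧ S.InT r := by
  obtain ⟨g, hg, e, e', hee, he, he', hge, hgu⟩ := hpair
  obtain ⟨D, hD⟩ := S.fixed _ S.tau_eps_sq
  have hD0 : D ≠ 0 := fun h => by
    rw [h, map_zero] at hD
    exact S.ε_ne (mul_self_eq_zero.1 hD.symm)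
  obtain ⟨u, hu⟩ : ∃ u, u = S.ε • e := ⟨_, rfl⟩
  rw [← hu] at hgu
  have huu : S.ω u u = 0 := by rw [hu, S.smul_left, S.smul_right, hee]; ring
  have hfue : S.f u e = 0 := by rw [hu]; exact S.f_eps hee
  have hfeu : S.f e u = 0 := by rw [S.f_skew, hfue, neg_zero]
  -- the linear transvection at `e` as two transvections
  have hsplit : ∀ a : F, S.kroot e (-2 * D * a) = S.tf e (-D * a) * S.tf u a := fun a =>
    LinearEquiv.ext fun z => by
      show _ = S.tf e _ (S.tf u a z)
      rw [S.kroot_apply hee, S.tf_apply, S.tf_apply, S.f_add_left, S.f_smul_left, hfue, mul_zero,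
        add_zero, add_assoc, ← algebraMap_smul K (a * S.f z u) u, hu, smul_smul,
        ← algebraMap_smul K (-D * a * S.f z e) e, ← add_smul]
      congr 2
      rw [map_mul, map_mul, map_mul, map_mul, map_mul, map_neg, map_neg, hD, S.f_eq, S.f_eq,
        S.smul_right, S.tau_ε, map_ofNat, map_mul, map_neg, S.tau_ε]
      ring
  have hue : u ∈ ({x | S.f x e = 0} : Set V) := hfue
  -- the second transvection
  set y := g * S.kroot e' 1 * g⁻¹ with hy
  have hyM : y ∈ S.M := S.M.mul_mem (S.M.mul_mem hg (S.kroot_mem he' 1)) (S.M.inv_mem hg)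
  have hye : y e = e := by
    show g (S.kroot e' 1 (g⁻¹ e)) = e
    rw [S.kroot_apply he', hge, mul_zero, zero_smul, add_zero, apply_inv_self']
  set c0 := S.f u (y u) with hc0
  have hc0' : c0 ≠ 0 := by
    have h1 : y u = u + g (S.ω (g⁻¹ u) e' • e') := by
      show g (S.kroot e' 1 (g⁻¹ u)) = _
      rw [S.kroot_apply he', map_one, one_mul, map_add, apply_inv_self']
    rw [hc0, h1, S.f_add_right, S.f_self, zero_add, ← S.f_inv hg]
    intro h
    have h2 := S.f_eq (g⁻¹ u) (S.ω (g⁻¹ u) e' • e')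
    rw [h, map_zero, S.smul_right, map_mul, S.tau_tau] at h2
    have h3 : (2 : K) * (S.τ (S.ω (g⁻¹ u) e') * S.ω (g⁻¹ u) e') = 0 := by linear_combination -h2
    refine mul_ne_zero S.two_ne' (mul_ne_zero ?_ hgu) h3
    simpa using hgu
  obtain ⟨v, hv⟩ : ∃ v, v = c0⁻¹ • y u := ⟨_, rfl⟩
  have huv : S.f u v = 1 := by rw [hv, S.f_smul_right, ← hc0, inv_mul_cancel₀ hc0']
  have hvu : S.f v u = -1 := by rw [S.f_skew, huv]
  have hfyue : S.f (y u) e = 0 := by
    have h := S.f_iso hyM u e
    rw [hye, hfue] at h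
    exact h
  have hve : S.f v e = 0 := by rw [hv, S.f_smul_left, hfyue, mul_zero]
  have hev : S.f e v = 0 := by rw [S.f_skew, hve, neg_zero]
  set G := S.planeGroup e u v with hG
  have hXM : ∀ a, S.tf u a ∈ G := fun a =>
    ⟨S.tf_iso u a, S.tf_fix hfeu a, fun z h1 _ => S.tf_fix h1 a, -D * a,
      hsplit a ▸ S.kroot_mem hee _⟩
  have hYM : ∀ a, S.tf v a ∈ G := fun a =>
    ⟨S.tf_iso v a, S.tf_fix hev a, fun z _ h2 => S.tf_fix h2 a, -D * (a / c0 ^ 2), by
      have h1 : y * (S.tf e (-D * (a / c0 ^ 2)) * S.tf u (a / c0 ^ 2)) * y⁻¹ ∈ S.M :=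
        S.M.mul_mem (S.M.mul_mem hyM (hsplit _ ▸ S.kroot_mem hee _)) (S.M.inv_mem hyM)
      rw [← conj_mul, S.conj_tf hyM, S.conj_tf hyM, hye] at h1
      convert h1 using 2
      refine LinearEquiv.ext fun z => ?_
      rw [S.tf_apply, S.tf_apply, hv, S.f_smul_right, smul_smul]
      congr 2
      field_simp⟩
  -- elements of the plane
  have helt : ∀ a b c d : F, c ≠ 0 → a * d - b * c = 1 →
      ∃ k ∈ G, k u = a • u + c • v ∧ k v = b • u + d • v := by
    intro a b c d hc hdet
    refine ⟨S.tf u (-((a - 1) / c)) * S.tf v c * S.tf u (-((d - 1) / c)),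
      G.mul_mem (G.mul_mem (hXM _) (hYM _)) (hXM _), ?_, ?_⟩
    · show S.tf u _ (S.tf v c (S.tf u _ u)) = _
      rw [S.tf_apply u (-((d - 1) / c)) u, S.f_self, mul_zero, zero_smul, add_zero, S.tf_apply,
        S.tf_apply, huv, S.f_add_left, S.f_smul_left, S.f_self, hvu]
      match_scalars <;> field_simp <;> ring
    · show S.tf u _ (S.tf v c (S.tf u _ v)) = _
      rw [S.tf_apply u (-((d - 1) / c)) v, S.tf_apply, S.tf_apply]
      simp only [S.f_add_left, S.f_smul_left, S.f_self, hvu, huv]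
      match_scalars
      · field_simp; ring
      · field_simp; linear_combination c * hdet
  obtain ⟨β, γ, hβγ, hγ⟩ : ∃ β γ : F, β ^ 2 + γ ^ 2 = -1 ∧ γ ≠ 0 := by
    obtain ⟨b, c, h⟩ := exists_two_sq (-1 : F)
    rcases eq_or_ne c 0 with rfl | hc
    · refine ⟨0, b, by linear_combination -h, fun hb => one_ne_zero (α := F) ?_⟩
      subst hb; linear_combination -h
    · exact ⟨b, c, by linear_combination -h, hc⟩
  obtain ⟨s1, hs1, hs1u, hs1v⟩ := helt 0 (-1) 1 0 one_ne_zero (by ring)
  obtain ⟨b1, hb1, hb1u, hb1v⟩ := helt β γ γ (-β) hγ (by linear_combination -hβγ)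
  set k := s1 * b1 * s1⁻¹ * b1⁻¹ with hk
  have hkM : k ∈ S.M := by
    obtain ⟨hs, hse, -, a, ha⟩ := hs1
    obtain ⟨hb, hbe, -, b, hb'⟩ := hb1
    have hc : ∀ (l : V ≃ₗ[F] V), (∀ x y, S.f (l x) (l y) = S.f x y) → l e = e → ∀ t,
        Commute (S.tf e t) l := fun l hl hle t => LinearEquiv.ext fun z => by
      show S.tf e t (l z) = l (S.tf e t z)
      have h := hl z e
      rw [hle] at h
      rw [S.tf_apply, S.tf_apply, map_add, map_smul, hle, h]
    have hcc : Commute (S.tf e a) (S.tf e b) := by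
      show _ * _ = _ * _
      rw [S.tf_add, S.tf_add, add_comm]
    have h := S.M.mul_mem (S.M.mul_mem (S.M.mul_mem ha hb') (S.M.inv_mem ha)) (S.M.inv_mem hb')
    convert h using 1
    rw [hk]
    have e1 := (hc s1 hs hse a); have e2 := (hc s1 hs hse b)
    have e3 := (hc b1 hb hbe a); have e4 := (hc b1 hb hbe b)
    symm
    calc S.tf e a * s1 * (S.tf e b * b1) * (S.tf e a * s1)⁻¹ * (S.tf e b * b1)⁻¹
        = S.tf e a * (s1 * S.tf e b) * b1 * (S.tf e a * s1)⁻¹ * (S.tf e b * b1)⁻¹ := by group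
      _ = S.tf e a * S.tf e b * (s1 * b1) * (s1 * S.tf e a)⁻¹ * (b1 * S.tf e b)⁻¹ := by
          rw [← e2.eq, e1.eq, e4.eq]; group
      _ = S.tf e a * S.tf e b * (s1 * b1 * (S.tf e a)⁻¹ * s1⁻¹) * (S.tf e b)⁻¹ * b1⁻¹ := by group
      _ = S.tf e a * S.tf e b * ((S.tf e a)⁻¹ * (s1 * b1 * s1⁻¹) * (S.tf e b)⁻¹) * b1⁻¹ := by
          rw [((e1.inv_left.symm).mul_left (e3.inv_left.symm)).eq]; group
      _ = S.tf e a * S.tf e b * ((S.tf e a)⁻¹ * (S.tf e b)⁻¹ * (s1 * b1 * s1⁻¹)) * b1⁻¹ := by
          rw [mul_assoc ((S.tf e a)⁻¹), ((e2.inv_left.symm.mul_left e4.inv_left.symm).mul_left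
            (e2.inv_left.inv_right.symm)).eq]; group
      _ = s1 * b1 * s1⁻¹ * b1⁻¹ := by rw [hcc.eq]; group
  have hkG : k ∈ G := G.mul_mem (G.mul_mem (G.mul_mem hs1 hb1) (G.inv_mem hs1)) (G.inv_mem hb1)
  have hkbs : ∀ z, k (b1 (s1 z)) = s1 (b1 z) := fun z => by
    show s1 (b1 (s1⁻¹ (b1⁻¹ (b1 (s1 z))))) = _
    rw [inv_apply_self, inv_apply_self]
  have hp : k (γ • u + (-β) • v) = -(γ • u + (-β) • v) := by
    have h := hkbs u
    rw [hs1u, zero_smul, zero_add, one_smul, hb1v, hb1u] at h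
    rw [h, map_add, map_smul, map_smul, hs1u, hs1v]
    match_scalars <;> ring
  have hq : k (β • u + γ • v) = -(β • u + γ • v) := by
    have h := hkbs v
    rw [hs1v, zero_smul, add_zero, neg_one_smul, map_neg, map_neg, hb1u, hb1v, neg_eq_iff_eq_neg] at h
    rw [h, map_add, map_smul, map_smul, hs1u, hs1v]
    match_scalars <;> ring
  have hku : k u = -u := by
    have h : u = (-γ) • (γ • u + (-β) • v) + (-β) • (β • u + γ • v) := by
      match_scalars <;> first | ring1 | linear_combination hβγ | linear_combination -hβγ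
    conv_lhs => rw [h, map_add, map_smul, map_smul, hp, hq, smul_neg, smul_neg, ← neg_add, ← h]
  have hkv : k v = -v := by
    have h : v = β • (γ • u + (-β) • v) + (-γ) • (β • u + γ • v) := by
      match_scalars <;> first | ring1 | linear_combination hβγ | linear_combination -hβγ
    conv_lhs => rw [h, map_add, map_smul, map_smul, hp, hq, smul_neg, smul_neg, ← neg_add, ← h]
  have hkz : ∀ z, k z = z - (2 : F) • (S.f z v • u - S.f z u • v) := fun z => by
    have h0 : k (z - (S.f z v • u - S.f z u • v)) = z - (S.f z v • u - S.f z u • v) := by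
      refine hkG.2.2.1 _ ?_ ?_ <;>
        rw [S.f_sub_left, S.f_sub_left, S.f_smul_left, S.f_smul_left, S.f_self] <;>
        first
        | rw [hvu]; ring
        | rw [huv]; ring
    rw [map_sub, map_sub, map_smul, map_smul, hku, hkv, sub_eq_iff_eq_add] at h0
    rw [h0]; module
  -- the moved plane
  have hαv : S.ω v e ≠ 0 := fun h => by
    have h1 := S.f_eq v u
    rw [hvu, hu, S.smul_right, h, mul_zero, map_zero, add_zero, map_neg, map_one, neg_eq_zero] at h1
    exact one_ne_zero h1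
  obtain ⟨p, hpe, hpp⟩ := S.exists_value_one e (c := S.ε) S.tau_ε
  have hep : S.ω e p = 0 := by rw [S.skew p e, hpe, map_zero, neg_zero]
  let L : V →ₗ[F] V :=
    { toFun := fun z => z + S.ω z e • p + (S.ω z p + S.ε / 2 * S.ω z e) • e
      map_add' := fun x y => by
        simp only [S.add_left, mul_add, add_smul]; abel
      map_smul' := fun a x => by
        simp only [← algebraMap_smul K a, S.smul_left, RingHom.id_apply, smul_add, smul_smul, mul_add]
        congr 3
        ring }
  have hLω : ∀ x y, S.ω (L x) (L y) = S.ω x y := by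
    intro x y
    show S.ω (x + S.ω x e • p + (S.ω x p + S.ε / 2 * S.ω x e) • e)
      (y + S.ω y e • p + (S.ω y p + S.ε / 2 * S.ω y e) • e) = _
    simp only [S.add_left, S.add_right, S.smul_left, S.smul_right, map_add, map_mul, map_div₀,
      map_ofNat, S.tau_ε, hee, hpe, hep, hpp, S.skew y p, S.skew y e]
    simp only [map_neg, neg_div]
    have := S.two_ne'
    field_simp
    ring
  have hLinj : Function.Injective L := fun x y hxy => by
    rw [← sub_eq_zero]
    exact S.nondeg _ fun z => by rw [← hLω, map_sub, hxy, sub_self, S.zero_left]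
  obtain ⟨h, hhdef⟩ : ∃ h : V ≃ₗ[F] V, ∀ z, h z = L z :=
    ⟨LinearEquiv.ofBijective L (Finite.injective_iff_bijective.1 hLinj), fun z => rfl⟩
  obtain ⟨e2, he2d⟩ : ∃ e2, e2 = S.ω v e • p + (S.ω v p + S.ε / 2 * S.ω v e) • e := ⟨_, rfl⟩
  have he22 : S.ω e2 e2 ≠ 0 := by
    rw [he2d, S.add_left, S.add_right, S.add_right, S.smul_left, S.smul_left, S.smul_left,
      S.smul_left, S.smul_right, S.smul_right, S.smul_right, S.smul_right, hee, hpe, hep, hpp]
    simp only [mul_zero, add_zero]
    exact mul_ne_zero hαv (mul_ne_zero (fun h => hαv (by simpa using h)) S.ε_ne)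
  have hhM : h ∈ S.M := by
    refine S.lin_mem _ (fun c x => ?_) fun x y => by rw [hhdef, hhdef, hLω]
    rw [hhdef, hhdef]
    show c • x + S.ω (c • x) e • p + (S.ω (c • x) p + S.ε / 2 * S.ω (c • x) e) • e = _
    rw [S.smul_left, S.smul_left]
    show _ = c • (x + S.ω x e • p + (S.ω x p + S.ε / 2 * S.ω x e) • e)
    module
  have hhu : h u = u := by
    rw [hhdef, hu]
    show S.ε • e + S.ω (S.ε • e) e • p + (S.ω (S.ε • e) p + S.ε / 2 * S.ω (S.ε • e) e) • e = _
    simp [S.smul_left, hee, hep]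
  have hhv : h v = v + e2 := by
    rw [hhdef, he2d, ← add_assoc]
    rfl
  have he2e : S.ω e2 e = 0 := by
    rw [he2d, S.add_left, S.smul_left, S.smul_left, hpe, hee, mul_zero, mul_zero, add_zero]
  have he2 : S.ω e e2 = 0 := by rw [S.skew e2 e, he2e, map_zero, neg_zero]
  obtain ⟨r, hr⟩ : ∃ r, r = (-S.f e2 v) • u + e2 := ⟨_, rfl⟩
  have hrv : S.f r v = 0 := by rw [hr, S.f_add_left, S.f_smul_left, huv]; ring
  have hre : S.f r e = 0 := by
    rw [hr, S.f_add_left, S.f_smul_left, hfue, show S.f e2 e = 0 by rw [f, he2e, map_zero]]; ring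
  have hru : S.f r u = 0 := by
    have h2 : S.f e2 u = 0 := by rw [f, hu, S.smul_right, he2e, mul_zero, map_zero]
    rw [hr, S.f_add_left, S.f_smul_left, S.f_self, h2]; ring
  have hur : S.f u r = 0 := by rw [S.f_skew, hru, neg_zero]
  have hkh : ∀ z, (h * k * h⁻¹) z = z - (2 : F) • (S.f z (v + r) • u - S.f z u • (v + r)) := fun z => by
    show h (k (h⁻¹ z)) = _
    rw [hkz, map_sub, map_smul, map_sub, map_smul, map_smul, apply_inv_self', S.f_inv hhM,
      S.f_inv hhM, hhu, hhv, hr]
    simp only [S.f_add_right, S.f_smul_right]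
    module
  have hR : ∀ z, (k * (h * k * h⁻¹)) z = S.radF r ((2 : F) • u) z := fun z => by
    show k ((h * k * h⁻¹) z) = _
    rw [hkh, map_sub, map_smul, map_sub, map_smul, map_smul, map_add, hkz, hku, hkv]
    have hkr : k r = r := hkG.2.2.1 r hru hrv
    rw [hkr, radF, S.f_add_right, S.f_smul_right]
    module
  have hRM : k * (h * k * h⁻¹) ∈ S.M := S.M.mul_mem hkM (S.M.mul_mem (S.M.mul_mem hhM hkM) (S.M.inv_mem hhM))
  refine ⟨r, ?_, fun b => ?_⟩
  · rw [hr, ← algebraMap_smul K (-S.f e2 v) u, hu, S.add_left, S.add_right, S.add_right, S.smul_left,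
      S.smul_left, S.smul_left, S.smul_left, S.smul_right, S.smul_right, S.smul_right, S.smul_right,
      hee, he2, he2e]
    simpa using he22
  -- conjugate by the other transvection
  set a := -b / 8 with ha
  obtain ⟨-, -, -, a', ha'⟩ := hYM a
  set l := S.tf e a' * S.tf v a with hl
  have hlu : l u = u + a • v := by
    show S.tf e a' (S.tf v a u) = _
    rw [S.tf_apply v, huv, mul_one, S.tf_fix]
    rw [S.f_add_left, S.f_smul_left, hfue, hve]; ring
  have hlr : l r = r := by
    show S.tf e a' (S.tf v a r) = _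
    rw [S.tf_fix hrv, S.tf_fix hre]
  have hR2 : ∀ z, (l * (k * (h * k * h⁻¹)) * l⁻¹) z = S.radF r ((2 : F) • (u + a • v)) z := fun z => by
    show l ((k * (h * k * h⁻¹)) (l⁻¹ z)) = _
    rw [hR, radF, radF, map_add, map_add, map_smul, map_smul, map_smul, apply_inv_self', hlu, hlr,
      S.f_inv ha', S.f_inv ha', map_smul, hlr, hlu]
  have hl2 : l * (k * (h * k * h⁻¹)) * l⁻¹ ∈ S.M :=
    S.M.mul_mem (S.M.mul_mem ha' hRM) (S.M.inv_mem ha')
  set R1 := k * (h * k * h⁻¹)
  set R2 := l * R1 * l⁻¹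
  have hcomm : R1 * R2 = S.tf r b * (R2 * R1) := LinearEquiv.ext fun z => by
    show R1 (R2 z) = S.tf r b (R2 (R1 z))
    rw [hR, hR2, hR2, hR, radF, radF, radF, radF, S.tf_apply]
    have hvr : S.f v r = 0 := by rw [S.f_skew, hrv, neg_zero]
    simp only [S.f_add_left, S.f_smul_left, S.f_add_right, S.f_smul_right, S.f_self, hur, hru, hrv,
      hvr, huv, hvu, mul_zero, zero_mul, add_zero, zero_add]
    rw [ha]
    have h2 := S.two_ne
    have h8 : (8 : F) ≠ 0 := by
      rw [show (8 : F) = 2 * 2 * 2 by norm_num]; exact mul_ne_zero (mul_ne_zero h2 h2) h2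
    match_scalars <;> field_simp <;> ring
  rw [eq_mul_inv_of_mul_eq hcomm.symm]
  exact S.M.mul_mem (S.M.mul_mem hRM hl2) (S.M.inv_mem (S.M.mul_mem hl2 hRM))

/-- **Conclusion.** -/
theorem transvection_mem (hnot : ∃ g ∈ S.M, ¬ IsSemi F K g) (v : V) (a : F) :
    ∃ g ∈ S.M, ∀ z, g z = z + (a * S.f z v) • v := by
  obtain ⟨r, hrr, hr⟩ := S.exists_kcomm (S.exists_pair hnot)
  exact ⟨S.tf v a, S.inT_all hrr hr v a, fun z => rfl⟩

end Setting

end Cfsg.Agent.Lib.K41.ExtForm.Herm2
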