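import Cfsg.Agent.Lib.K41.ExtForm.Basic

/-!
An overgroup of the semilinear isometries which is not semilinear contains a non-semilinear
element stabilising a line.
Owner: helper41.
-/
set_option autoImplicit false
set_option linter.unusedSectionVars false
set_option linter.style.haveILetI false

namespace Cfsg.Agent.Lib.K41.ExtForm

open Module Cfsg.Agent.Lib.ExtFieldMax

variable {F K V : Type*} [Field F] [Field K] [Algebra F K] [AddCommGroup V] [Module F V]
  [Module K V] [IsScalarTower F K V] [Finite F] [Finite K] [Finite V]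

/-- The map `c ↦ c • e`. -/
def lineMapF (e : V) : K →ₗ[F] V where
  toFun c := c • e
  map_add' c d := add_smul c d e
  map_smul' a c := smul_assoc a c e

namespace Setting

variable (S : Setting F K V)

/-- The root elements in the group, as a subgroup. -/
noncomputable def rootGroup (e : V) (U : AddSubgroup (Module.End F K)) : Subgroup (V ≃ₗ[F] V) where
  carrier := {g | ∃ T ∈ U, g = S.root e T}
  mul_mem' := by
    rintro a b ⟨T, hT, rfl⟩ ⟨T', hT', rfl⟩
    exact ⟨T + T', U.add_mem hT hT', S.root_mul e T T'⟩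
  one_mem' := ⟨0, U.zero_mem, (S.root_zero e).symm⟩
  inv_mem' := by
    rintro a ⟨T, hT, rfl⟩
    exact ⟨-T, U.neg_mem hT, S.root_inv e T⟩

theorem mem_rootGroup {e : V} {U : AddSubgroup (Module.End F K)} {g : V ≃ₗ[F] V} :
    g ∈ S.rootGroup e U ↔ ∃ T ∈ U, g = S.root e T := Iff.rfl

theorem exists_char : ∃ p : ℕ, p.Prime ∧ (p : F) = 0 ∧ p ≤ Nat.card F := by
  haveI := Fintype.ofFinite F
  obtain ⟨p, hp⟩ := CharP.exists F
  obtain ⟨n, hpp, hn⟩ := FiniteField.card F p
  refine ⟨p, hpp, CharP.cast_eq_zero F p, ?_⟩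
  rw [Nat.card_eq_fintype_card, hn]
  exact Nat.le_self_pow n.ne_zero p

/-- The group step: inside a group `G` fixing a set, the root elements at a point cannot absorb
every stabiliser of the line. -/
theorem stable_contra {e : V} (he : e ≠ 0) (G : Subgroup (V ≃ₗ[F] V)) (hGM : G ≤ S.M)
    (hroot : S.rootGroup e (S.params e) ≤ G)
    (hstab : ∀ g ∈ G, (∀ c : K, g (c • e) ∈ Submodule.span K {e}) → ∀ y ∈ S.perp e, g y = y)
    {k : V ≃ₗ[F] V} (hk : k ∈ G) (hkQ : ∃ y ∈ S.perp e, k y ≠ y) : False := by
  obtain ⟨p, hp, hp0, hpq⟩ := exists_char (F := F)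
  haveI : Fact p.Prime := ⟨hp⟩
  haveI : Finite (V ≃ₗ[F] V) := Finite.of_injective (fun g => (g : V → V)) DFunLike.coe_injective
  let Q : Subgroup G := (S.rootGroup e (S.params e)).subgroupOf G
  let Q0 : Subgroup G := (S.rootGroup e ((Algebra.lmul F K).toLinearMap.toAddMonoidHom.range)).subgroupOf G
  have hle : Q0 ≤ Q := fun g hg => by
    obtain ⟨T, ⟨t, rfl⟩, h⟩ := Subgroup.mem_subgroupOf.1 hg
    exact Subgroup.mem_subgroupOf.2 ⟨_, ⟨selfAdj_mu t, S.root_mu_mem e t⟩, h⟩
  have hpow : ∀ x : G, x ∈ Q → x ^ p = 1 := fun x hx => by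
    obtain ⟨T, -, h⟩ := Subgroup.mem_subgroupOf.1 hx
    refine Subtype.ext ?_
    rw [SubmonoidClass.coe_pow, h, S.root_pow, ← Nat.cast_smul_eq_nsmul F, hp0, zero_smul,
      S.root_zero]
    rfl
  have hQp : IsPGroup p Q := fun x => ⟨1, Subtype.ext (by simpa using hpow x.1 x.2)⟩
  have hcomm : IsMulCommutative Q := ⟨⟨fun a b => by
    obtain ⟨T, -, h⟩ := Subgroup.mem_subgroupOf.1 a.2
    obtain ⟨T', -, h'⟩ := Subgroup.mem_subgroupOf.1 b.2
    apply Subtype.ext
    apply Subtype.ext
    show (a.1.1 * b.1.1 : V ≃ₗ[F] V) = b.1.1 * a.1.1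
    rw [h, h', S.root_mul, S.root_mul, add_comm]⟩⟩
  have hnc : ¬ IsCyclic Q0 := by
    intro hc
    obtain ⟨gen, hgen⟩ := IsCyclic.exists_generator (α := Q0)
    have h1 : Nat.card Q0 ≤ p := by
      rw [← orderOf_eq_card_of_forall_mem_zpowers hgen]
      exact Nat.le_of_dvd hp.pos (orderOf_dvd_of_pow_eq_one (Subtype.ext (by
        simpa using hpow gen.1 (hle gen.2))))
    have h2 : Nat.card K ≤ Nat.card Q0 := by
      refine Nat.card_le_card_of_injective
        (fun t => (⟨⟨S.root e (Algebra.lmul F K t), hroot ⟨_, ⟨selfAdj_mu t, S.root_mu_mem e t⟩, rfl⟩⟩,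
          Subgroup.mem_subgroupOf.2 ⟨_, ⟨t, rfl⟩, rfl⟩⟩ : Q0)) fun a b hab => ?_
      have h := S.root_injective he (congrArg (fun z : Q0 => (z : G).1) hab)
      simpa using LinearMap.congr_fun h 1
    have h3 : Nat.card F < Nat.card K := by
      rw [natCard_K (F := F) (K := K)]
      exact lt_self_pow₀ Finite.one_lt_card S.prime.one_lt
    omega
  have htop := eq_top_of_stable hQp hcomm hle hnc fun g q hq hq1 hgq => by
    obtain ⟨T, ⟨t, rfl⟩, h⟩ := Subgroup.mem_subgroupOf.1 hq
    obtain ⟨T', -, h'⟩ := Subgroup.mem_subgroupOf.1 hgq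
    have ht : t ≠ 0 := by
      rintro rfl
      refine hq1 (Subtype.ext ?_)
      rw [h]
      show S.root e (Algebra.lmul F K 0) = 1
      rw [map_zero, S.root_zero]
    have hline : ∀ c : K, g.1 (c • e) ∈ Submodule.span K {e} := fun c => by
      obtain ⟨e', he'⟩ := S.exists_partner he
      set z := (-(c / t)) • e' with hz
      have h1 : q.1 z - z = c • e := by
        rw [h, S.root_apply, hz, S.smul_left, S.skew e' e, he', add_sub_cancel_left]
        simp [mul_div_cancel₀ c ht]
      have h2 : (g.1 * q.1 * g.1⁻¹) (g.1 z) = g.1 (q.1 z) := by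
        show g.1 (q.1 (g.1⁻¹ (g.1 z))) = _
        rw [inv_apply_self]
      have h3 : (g * q * g⁻¹ : G).1 = g.1 * q.1 * g.1⁻¹ := rfl
      rw [← h1, map_sub, ← h2, ← h3, h', S.root_apply, add_sub_cancel_left]
      exact Submodule.smul_mem _ _ (Submodule.mem_span_singleton_self e)
    obtain ⟨T'', hT'', hg⟩ := S.exists_root_of_fix (hGM g.2) he (hstab g.1 g.2 hline)
    exact Subgroup.mem_subgroupOf.2 ⟨T'', hT'', hg⟩
  obtain ⟨y, hy, hky⟩ := hkQ
  have hmem : (⟨k, hk⟩ : G) ∈ Q := htop ▸ Subgroup.mem_top _
  obtain ⟨T, -, h⟩ := Subgroup.mem_subgroupOf.1 hmem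
  exact hky (by rw [show k = S.root e T from h]; exact S.root_fix T hy)

/-- The image of the orthogonal of `e`. -/
noncomputable def moved (g : V ≃ₗ[F] V) (e : V) : Submodule F V :=
  ((S.perp e).restrictScalars F).map (g : V →ₗ[F] V)

theorem mem_moved {g : V ≃ₗ[F] V} {e x : V} : x ∈ S.moved g e ↔ g⁻¹ x ∈ S.perp e := by
  constructor
  · rintro ⟨y, hy, rfl⟩
    show g⁻¹ (g y) ∈ S.perp e
    rwa [inv_apply_self]
  · exact fun h => ⟨g⁻¹ x, h, apply_inv_self' g x⟩

/-- The first transfer step, for one pair of lines. -/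
theorem ti_contra
    (hB : ∀ (e : V), e ≠ 0 → ∀ g ∈ S.M, (∀ c : K, g (c • e) ∈ Submodule.span K {e}) → IsSemi F K g)
    {e e' : V} (he : e ≠ 0) (he' : e' ≠ 0) {g : V ≃ₗ[F] V} (hg : g ∈ S.M) {x : V} {c0 : K}
    (hx : x ∈ S.perp e') (hxA : x ∈ S.moved g e) (hcx : c0 • x ∉ S.moved g e)
    (hd : finrank K V ≤ finrank F ((S.perp e').restrictScalars F ⊓ S.moved g e : Submodule F V)) :
    False := by
  haveI := S.nontrivial
  haveI : FiniteDimensional F V := Module.Finite.of_finite
  haveI : FiniteDimensional K V := Module.Finite.of_finite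
  set D : Submodule F V := (S.perp e').restrictScalars F ⊓ S.moved g e with hD
  -- the `K`-span of `D`
  have hspan : Submodule.span K (D : Set V) = S.perp e' := by
    have hle : Submodule.span K (D : Set V) ≤ S.perp e' := Submodule.span_le.2 fun z hz => hz.1
    refine Submodule.eq_of_le_of_finrank_le hle ?_
    have hlt : D < (Submodule.span K (D : Set V)).restrictScalars F := by
      refine lt_of_le_of_ne (fun z hz => Submodule.subset_span hz) fun heq => hcx ?_
      have h1 : c0 • x ∈ Submodule.span K (D : Set V) :=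
        Submodule.smul_mem _ _ (Submodule.subset_span ⟨hx, hxA⟩)
      have h2 : c0 • x ∈ D := heq ▸ h1
      exact h2.2
    have h1 := Submodule.finrank_lt_finrank_of_lt hlt
    have hA : finrank F (S.moved g e) = finrank F K * finrank K (S.perp e) := by
      rw [Module.finrank_mul_finrank F K]
      exact ((LinearEquiv.submoduleMap g ((S.perp e).restrictScalars F)).symm.finrank_eq)
    have hB' : finrank F ((S.perp e').restrictScalars F) = finrank F K * finrank K (S.perp e') := by
      rw [Module.finrank_mul_finrank F K]; rfl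
    have h2 := Submodule.finrank_sup_add_finrank_inf_eq ((S.perp e').restrictScalars F) (S.moved g e)
    have h3 : finrank F ↥((S.perp e').restrictScalars F ⊔ S.moved g e) ≤ finrank F K * finrank K V := by
      rw [Module.finrank_mul_finrank F K]; exact Submodule.finrank_le _
    have h4 : finrank F ((Submodule.span K (D : Set V)).restrictScalars F) =
        finrank F K * finrank K (Submodule.span K (D : Set V)) := by
      rw [Module.finrank_mul_finrank F K]; rfl
    have h5 := S.finrank_perp he
    have h6 := S.finrank_perp he'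
    rw [← hD] at h2
    by_contra hcon
    push Not at hcon
    obtain ⟨j, hj⟩ : ∃ j, finrank K V = finrank K (Submodule.span K (D : Set V)) + 2 + j :=
      ⟨finrank K V - (finrank K (Submodule.span K (D : Set V)) + 2), by omega⟩
    have e1 : finrank K (S.perp e) = finrank K (Submodule.span K (D : Set V)) + 1 + j := by omega
    have e2 : finrank K (S.perp e') = finrank K (Submodule.span K (D : Set V)) + 1 + j := by omega
    rw [hA, hB', e1, e2] at h2
    rw [hj] at h3
    nlinarith
  refine S.stable_contra he' (fixG S.M (D : Set V)) (fun h hh => hh.1) ?_ ?_ (k := g * S.root e 1 * g⁻¹)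
    ?_ ?_
  · rintro h ⟨T, hT, rfl⟩
    exact ⟨hT.2, fun z hz => S.root_fix T hz.1⟩
  · intro h hh hline
    obtain ⟨ν, hν⟩ := exists_aut (hB e' he' h hh.1 hline)
    have hone : ν = 1 := by
      by_contra hne
      have b := Module.finBasis F D
      have hli : LinearIndependent F (fun i => (b i : V)) :=
        b.linearIndependent.map' D.subtype D.ker_subtype
      have hK := fixed_indep S.prime hν hne (v := fun i => (b i : V))
        (fun i => hh.2 _ (b i).2) hli
      have hv : ∀ i, (b i : V) ∈ S.perp e' := fun i => (b i).2.1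
      have hK' : LinearIndependent K (fun i => (⟨(b i : V), hv i⟩ : S.perp e')) :=
        LinearIndependent.of_comp (S.perp e').subtype hK
      have := hK'.fintype_card_le_finrank
      rw [Fintype.card_fin] at this
      have := S.finrank_perp he'
      omega
    intro y hy
    rw [← hspan] at hy
    induction hy using Submodule.span_induction with
    | mem z hz => exact hh.2 z hz
    | zero => exact map_zero h
    | add a b _ _ ha hb => rw [map_add, ha, hb]
    | smul c a _ ha => rw [hν, hone, ha]; rfl
  · refine ⟨?_, fun z hz => ?_⟩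
    · refine S.M.mul_mem (S.M.mul_mem hg ?_) (S.M.inv_mem hg)
      rw [← map_one (Algebra.lmul F K)]
      exact S.root_mu_mem e 1
    · show g (S.root e 1 (g⁻¹ z)) = z
      rw [S.root_fix 1 (S.mem_moved.1 hz.2), apply_inv_self']
  · refine ⟨c0 • x, Submodule.smul_mem _ c0 hx, fun h => ?_⟩
    have h1 : g (S.root e 1 (g⁻¹ (c0 • x))) = g (g⁻¹ (c0 • x)) := by
      rw [apply_inv_self']; exact h
    have h2 := g.injective h1
    rw [S.root_apply, add_eq_left, smul_eq_zero] at h2
    exact hcx (S.mem_moved.2 (h2.resolve_right he))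

/-- **Step 1.** -/
theorem exists_stab (hnot : ∃ g ∈ S.M, ¬ IsSemi F K g) :
    ∃ (e : V) (g : V ≃ₗ[F] V), e ≠ 0 ∧ g ∈ S.M ∧ (∀ c : K, g (c • e) ∈ Submodule.span K {e}) ∧
      ¬ IsSemi F K g := by
  haveI := S.nontrivial
  haveI : FiniteDimensional F V := Module.Finite.of_finite
  haveI : FiniteDimensional K V := Module.Finite.of_finite
  by_contra hcon
  push Not at hcon
  have hB : ∀ (e : V), e ≠ 0 → ∀ g ∈ S.M, (∀ c : K, g (c • e) ∈ Submodule.span K {e}) →
      IsSemi F K g := fun e he g hg h => hcon e g he hg h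
  obtain ⟨g0, hg0, hns⟩ := hnot
  -- an element moving a line off every line
  obtain ⟨c, v, hline⟩ : ∃ (c : K) (v : V), g0 (c • v) ∉ Submodule.span K {g0 v} := by
    by_contra h
    push Not at h
    exact hns (isSemi_of_lines S.two_le g0 h)
  have hv : v ≠ 0 := fun h => hline (by rw [h, smul_zero, map_zero]; exact Submodule.zero_mem _)
  -- the image of the orthogonal is not a subspace over `K`
  obtain ⟨x, c0, hxA, hcx⟩ : ∃ (x : V) (c0 : K), x ∈ S.moved g0 v ∧ c0 • x ∉ S.moved g0 v := by
    by_contra h
    push Not at h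
    apply hline
    obtain ⟨w, hw⟩ := S.exists_partner (fun h0 => hv (g0.map_eq_zero_iff.1 h0) : g0 v ≠ 0)
    have key : ∀ a : K, ∀ z ∈ S.perp (g0 v), S.f (g0 (a • v)) z = 0 := by
      intro a z hz
      -- orthogonal complement of `S.moved g0 v`
      have hAv : ∀ y ∈ S.moved g0 v, ∀ b : K, S.f (g0 (b • v)) y = 0 := by
        intro y hy b
        obtain ⟨u, hu, rfl⟩ := hy
        show S.f (g0 (b • v)) (g0 u) = 0
        rw [S.f_iso hg0, f, S.smul_left, S.skew, S.mem_perp.1 hu, neg_zero, mul_zero, map_zero]
      have hAp : ∀ y ∈ S.moved g0 v, y ∈ S.perp (g0 v) := fun y hy => by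
        rw [mem_perp]
        refine S.eq_zero_of_trace fun b => ?_
        have h1 := hAv _ (h y b hy) 1
        rw [one_smul] at h1
        rw [f, S.skew, map_neg]
        exact neg_eq_zero.2 h1
      have hz' : z ∈ S.moved g0 v := by
        have hle : S.moved g0 v ≤ (S.perp (g0 v)).restrictScalars F := hAp
        have heq := Submodule.eq_of_le_of_finrank_le hle (le_of_eq ?_)
        · rw [heq]; exact hz
        · rw [moved, (LinearEquiv.submoduleMap g0 ((S.perp v).restrictScalars F)).symm.finrank_eq]
          show finrank F (S.perp (g0 v)) = finrank F (S.perp v)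
          rw [← Module.finrank_mul_finrank F K (S.perp (g0 v)), ← Module.finrank_mul_finrank F K (S.perp v)]
          congr 1
          have h5 := S.finrank_perp hv
          have h6 := S.finrank_perp (fun h0 => hv (g0.map_eq_zero_iff.1 h0) : g0 v ≠ 0)
          omega
      exact hAv z hz' a
    rw [S.eq_smul_of_perp hw (key c)]
    exact Submodule.smul_mem _ _ (Submodule.mem_span_singleton_self _)
  have hx0 : x ≠ 0 := fun h => hcx (by rw [h, smul_zero]; exact Submodule.zero_mem _)
  by_cases hm : 3 ≤ finrank K V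
  · -- many lines
    refine S.ti_contra hB hv hx0 hg0 (S.self_mem_perp x) hxA hcx ?_
    have h2 := Submodule.finrank_sup_add_finrank_inf_eq ((S.perp x).restrictScalars F) (S.moved g0 v)
    have h3 : finrank F ↥((S.perp x).restrictScalars F ⊔ S.moved g0 v) ≤ finrank F K * finrank K V := by
      rw [Module.finrank_mul_finrank F K]; exact Submodule.finrank_le _
    have hA : finrank F (S.moved g0 v) = finrank F K * finrank K (S.perp v) := by
      rw [Module.finrank_mul_finrank F K]
      exact ((LinearEquiv.submoduleMap g0 ((S.perp v).restrictScalars F)).symm.finrank_eq)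
    have hB' : finrank F ((S.perp x).restrictScalars F) = finrank F K * finrank K (S.perp x) := by
      rw [Module.finrank_mul_finrank F K]; rfl
    have h5 := S.finrank_perp hv
    have h6 := S.finrank_perp hx0
    have h7 := S.large
    rw [← Module.finrank_mul_finrank F K V] at h7
    obtain ⟨j, hj⟩ : ∃ j, finrank K V = 3 + j := ⟨finrank K V - 3, by omega⟩
    have e1 : finrank K (S.perp v) = 2 + j := by omega
    have e2 : finrank K (S.perp x) = 2 + j := by omega
    rw [hA, hB', e1, e2] at h2
    rw [hj] at h3 h7 ⊢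
    have hr2 := S.prime.two_le
    rcases Nat.lt_or_ge (finrank F K) 3 with hr3 | hr3
    · have hr : finrank F K = 2 := by omega
      rw [hr] at h2 h3 h7
      rcases h7 with h7 | h7 <;> omega
    · nlinarith
  · -- two dimensions
    have hm2 : finrank K V = 2 := by have := S.two_le; omega
    have hperp : ∀ e : V, e ≠ 0 → S.perp e = Submodule.span K {e} := fun e he => by
      refine (Submodule.eq_of_le_of_finrank_le
        ((Submodule.span_singleton_le_iff_mem _ _).2 (S.self_mem_perp e)) ?_).symm
      rw [finrank_span_singleton he]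
      have := S.finrank_perp he
      omega
    set x0 := c0 • x with hx0def
    have hα : S.ω (g0⁻¹ x0) v ≠ 0 := fun h => hcx (S.mem_moved.2 h)
    have hxA' := hxA
    obtain ⟨u, hu, hux⟩ : x ∈ ((S.perp v).restrictScalars F).map (g0 : V →ₗ[F] V) := hxA
    obtain ⟨δ, rfl⟩ := Submodule.mem_span_singleton.1 (hperp v hv ▸ hu : u ∈ Submodule.span K {v})
    set k := g0 * S.root v (Algebra.lmul F K (δ / S.ω (g0⁻¹ x0) v)) * g0⁻¹ with hk
    have hkM : k ∈ S.M := S.M.mul_mem (S.M.mul_mem hg0 (S.root_mu_mem _ _)) (S.M.inv_mem hg0)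
    have hkfix : ∀ a : K, k (g0 (a • v)) = g0 (a • v) := fun a => by
      show g0 (S.root v _ (g0⁻¹ (g0 (a • v)))) = _
      rw [inv_apply_self, S.root_fix _ (by rw [S.smul_left, S.alt, mul_zero])]
    have hkx : k x = x := by rw [← hux]; exact hkfix δ
    have hkx0 : k x0 = x0 + x := by
      show g0 (S.root v _ (g0⁻¹ x0)) = _
      rw [S.root_apply, map_add, apply_inv_self']
      congr 1
      simp only [Algebra.coe_lmul_eq_mul, LinearMap.mul_apply']
      rw [div_mul_cancel₀ δ hα]
      exact hux
    have hmv : ∀ a : K, k (a • x) ∈ S.moved k x := fun a =>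
      S.mem_moved.2 (by rw [inv_apply_self, S.mem_perp, S.smul_left, S.alt, mul_zero])
    -- `k` moves the line of `x`
    obtain ⟨d, hd⟩ : ∃ d : K, d • x ∉ S.moved k x := by
      by_contra h
      push Not at h
      have hle : (Submodule.span K {x}).restrictScalars F ≤ S.moved k x := fun z hz => by
        obtain ⟨a, rfl⟩ := Submodule.mem_span_singleton.1 hz
        exact h a
      have heq := Submodule.eq_of_le_of_finrank_le hle (by
        rw [moved, (LinearEquiv.submoduleMap k ((S.perp x).restrictScalars F)).symm.finrank_eq, hperp x hx0])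
      have hline' : ∀ a : K, k (a • x) ∈ Submodule.span K {x} := fun a => by
        have h1 := hmv a
        rw [← heq] at h1
        exact h1
      obtain ⟨ν, hν⟩ := exists_aut (hB x hx0 k hkM hline')
      have hone : ν = 1 := by
        by_contra hne
        have b := Module.finBasis F K
        let v' : Fin (finrank F K) → V := fun i => g0 (b i • v)
        have hli : LinearIndependent F v' := by
          have h1 := b.linearIndependent.map' ((g0 : V →ₗ[F] V).comp (lineMapF v))
            (LinearMap.ker_eq_bot.2 fun a a' h => smul_left_injective K hv (g0.injective h))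
          exact h1
        have h8 := (fixed_indep S.prime hν hne (v := v') (fun i => hkfix _) hli).fintype_card_le_finrank
        rw [Fintype.card_fin, hm2] at h8
        have h7 := S.large
        rw [← Module.finrank_mul_finrank F K V, hm2] at h7
        omega
      rw [hx0def, hν, hkx, hone, AlgEquiv.one_apply, left_eq_add] at hkx0
      exact hx0 hkx0
    refine S.ti_contra hB hx0 hx0 hkM (x := x) (c0 := d) (S.self_mem_perp x)
      (by have := hmv 1; rwa [one_smul, hkx] at this) hd ?_
    have hmem1 : x ∈ ((S.perp x).restrictScalars F ⊓ S.moved k x : Submodule F V) :=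
      ⟨S.self_mem_perp x, by have := hmv 1; rwa [one_smul, hkx] at this⟩
    have hmem2 : x0 + x ∈ ((S.perp x).restrictScalars F ⊓ S.moved k x : Submodule F V) :=
      ⟨(S.perp x).add_mem ((S.perp x).smul_mem c0 (S.self_mem_perp x)) (S.self_mem_perp x), by
        rw [← hkx0]; exact hmv c0⟩
    have hli : LinearIndependent F ![x, x0 + x] := by
      rw [LinearIndependent.pair_iff' hx0]
      intro a ha
      apply hcx
      have : c0 • x = (a - 1) • x := by rw [sub_smul, one_smul, ha, hx0def, add_sub_cancel_right]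
      rw [hx0def, this]
      exact Submodule.smul_mem _ _ hxA'
    rw [hm2]
    have h9 := Submodule.finrank_mono (show Submodule.span F (Set.range ![x, x0 + x]) ≤
        ((S.perp x).restrictScalars F ⊓ S.moved k x : Submodule F V) from Submodule.span_le.2 (by
      rintro _ ⟨i, rfl⟩
      fin_cases i
      · exact hmem1
      · exact hmem2))
    rwa [finrank_span_eq_card hli, Fintype.card_fin] at h9

end Setting

end Cfsg.Agent.Lib.K41.ExtForm
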