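import Cfsg.Agent.Lib.K41.ExtForm.Line

/-!
An overgroup of the semilinear isometries outside them contains every transvection of the trace
form.
Owner: helper41.
-/
set_option autoImplicit false
set_option linter.unusedSectionVars false
set_option linter.style.haveILetI false

namespace Cfsg.Agent.Lib.K41.ExtForm

open Module Cfsg.Agent.Lib.ExtFieldMax

variable {F K V : Type*} [Field F] [Field K] [Algebra F K] [AddCommGroup V] [Module F V]
  [Module K V] [IsScalarTower F K V] [Finite F] [Finite K] [Finite V]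

theorem adj_adj (Q : Module.End F K) : adj (adj Q) = Q := adj_eq fun a b => by
  rw [mul_comm, ← adj_spec, mul_comm]

/-- Symmetrisations of all right translates being scalar forces commutation with multiplications. -/
theorem comm_of_sym (φ : Module.End F K)
    (h : ∀ d : K, ∃ t : K, φ * Algebra.lmul F K d + adj (φ * Algebra.lmul F K d) = Algebra.lmul F K t)
    (a : K) : φ a = a * φ 1 := by
  haveI := Fintype.ofFinite K
  choose t ht using h
  let s : K → K := fun d => t d - d * t 1
  have hk : ∀ d : K, φ * Algebra.lmul F K d - Algebra.lmul F K d * φ = Algebra.lmul F K (s d) := by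
    intro d
    have h1 : φ * Algebra.lmul F K d + Algebra.lmul F K d * adj φ = Algebra.lmul F K (t d) := by
      rw [← ht d, adj_mul, adj_mu]
    have h2 : φ + adj φ = Algebra.lmul F K (t 1) := by rw [← ht 1, map_one, mul_one]
    rw [map_sub, map_mul, ← h1, ← h2, mul_add]
    abel
  have hs : ∀ c d, s (c * d) = s c * d + c * s d := by
    intro c d
    have h1 : (φ * Algebra.lmul F K (c * d) - Algebra.lmul F K (c * d) * φ) 1 =
        ((φ * Algebra.lmul F K c - Algebra.lmul F K c * φ) * Algebra.lmul F K d) 1 +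
          (Algebra.lmul F K c * (φ * Algebra.lmul F K d - Algebra.lmul F K d * φ)) 1 := by
      rw [← LinearMap.add_apply, map_mul]
      congr 1
      simp only [sub_mul, mul_sub, mul_assoc]
      abel
    rw [hk, hk, hk] at h1
    simpa using h1
  have hpow : ∀ (c : K) (n : ℕ), s (c ^ (n + 1)) = (n + 1 : K) * c ^ n * s c := by
    intro c n
    induction n with
    | zero => simp
    | succ n ih =>
      rw [pow_succ c (n + 1), hs, ih]
      push_cast
      ring
  have hs0 : s a = 0 := by
    have h1 := hpow a (Fintype.card K - 1)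
    rw [Nat.sub_add_cancel Fintype.card_pos, FiniteField.pow_card] at h1
    have h2 : ((Fintype.card K - 1 : ℕ) + 1 : K) = 0 := by
      rw [← Nat.cast_add_one, Nat.sub_add_cancel Fintype.card_pos, Nat.cast_card_eq_zero]
    rw [h2, zero_mul, zero_mul] at h1
    exact h1
  have := LinearMap.congr_fun (hk a) 1
  rw [hs0, map_zero] at this
  simpa [sub_eq_zero] using this

theorem PSemi.exists_aut {P : K ≃ₗ[F] K} (h : PSemi P) :
    ∃ ν : K ≃ₐ[F] K, ∀ c a, P (c * a) = ν c * P a := by
  choose d hd using h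
  have hd' : ∀ c a, P (c * a) = d c * P a := fun c a => LinearMap.congr_fun (hd c) a
  have hP1 : P 1 ≠ 0 := fun h => one_ne_zero (P.map_eq_zero_iff.1 h)
  have key : ∀ c e : K, P c = e * P 1 → d c = e := fun c e he => by
    have h1 := hd' c 1
    rw [mul_one, he] at h1
    exact (mul_right_cancel₀ hP1 h1).symm
  let D : K →ₐ[F] K :=
    { toFun := d
      map_one' := key 1 1 (by rw [one_mul])
      map_mul' := fun a b => key _ _ (by rw [hd', mul_assoc, ← hd' b 1, mul_one])
      map_zero' := key 0 0 (by rw [map_zero, zero_mul])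
      map_add' := fun a b => key _ _ (by rw [map_add, add_mul, ← hd', ← hd', mul_one, mul_one])
      commutes' := fun t => key _ _ (by
        rw [← Algebra.smul_def, Algebra.algebraMap_eq_smul_one, map_smul]) }
  exact ⟨AlgEquiv.ofBijective D ⟨D.toRingHom.injective,
    Finite.injective_iff_surjective.1 D.toRingHom.injective⟩, hd'⟩

namespace Setting

variable (S : Setting F K V)

theorem neg_left (x z : V) : S.ω (-x) z = - S.ω x z := by
  rw [← neg_one_smul K x, S.smul_left, neg_one_mul]

theorem neg_right (x z : V) : S.ω x (-z) = - S.ω x z := by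
  rw [← neg_one_smul K z, S.smul_right, neg_one_mul]

/-- The element `z ↦ z + ω z e • y + ω z y • e`. -/
noncomputable def rad (e y : V) : V ≃ₗ[F] V :=
  S.root (e + y) (Algebra.lmul F K 1) * S.root e (Algebra.lmul F K (-1)) *
    S.root y (Algebra.lmul F K (-1))

theorem rad_mem (e y : V) : S.rad e y ∈ S.M :=
  S.M.mul_mem (S.M.mul_mem (S.root_mu_mem _ _) (S.root_mu_mem _ _)) (S.root_mu_mem _ _)

theorem rad_apply {e y : V} (h : S.ω y e = 0) (z : V) :
    S.rad e y z = z + S.ω z e • y + S.ω z y • e := by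
  have h' : S.ω e y = 0 := by rw [S.skew, h, neg_zero]
  show S.root (e + y) _ (S.root e _ (S.root y _ z)) = _
  simp only [root_apply, Algebra.coe_lmul_eq_mul, LinearMap.mul_apply', neg_one_mul, one_mul,
    S.add_left, S.add_right, S.smul_left, S.neg_left, S.alt, h, h', mul_zero, add_zero, neg_smul, neg_zero]
  module

/-- **Step 2.** -/
theorem exists_nonlinear_param {e : V} (he : e ≠ 0) {g : V ≃ₗ[F] V} (hg : g ∈ S.M)
    (hst : ∀ c : K, g (c • e) ∈ Submodule.span K {e}) (hns : ¬ IsSemi F K g) :
    ∃ T ∈ S.params e, ∀ t : K, T ≠ Algebra.lmul F K t := by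
  by_contra hcon
  push Not at hcon
  obtain ⟨P, hP⟩ := exists_lineMap (g := g) he he hst
  obtain ⟨e', he'⟩ := S.exists_partner he
  set p := P.toLinearMap with hp
  have hpa : adj p * adj P.symm.toLinearMap = 1 := by
    rw [← adj_mul, show P.symm.toLinearMap * p = 1 from LinearMap.ext P.symm_apply_apply, adj_one]
  have hm : ∀ c : K, ∃ t : K, p * Algebra.lmul F K c * adj p = Algebra.lmul F K t := fun c =>
    hcon _ (S.params_conj hg hP ((S.params_family he).mu_mem c))
  choose m hm using hm
  have hpm : ∀ c, p * Algebra.lmul F K c = Algebra.lmul F K (m c) * adj P.symm.toLinearMap := fun c => by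
    rw [← hm, mul_assoc _ (adj p), hpa, mul_one]
  have hm1 : m 1 ≠ 0 := fun h0 => by
    have := LinearMap.congr_fun (hpm 1) 1
    rw [h0, map_zero (Algebra.lmul F K), map_one (Algebra.lmul F K), zero_mul, mul_one] at this
    exact one_ne_zero (P.map_eq_zero_iff.1 this)
  have hPS : PSemi P := fun c => ⟨m c / m 1, by
    have h1 := hpm 1
    rw [map_one, mul_one] at h1
    show p * _ = _ * p
    conv_rhs => rw [h1, ← mul_assoc, ← map_mul, div_mul_cancel₀ _ hm1]
    exact hpm c⟩
  obtain ⟨ν, hν⟩ := hPS.exists_aut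
  have hadj : ∀ c a, adj p (ν c * a) = c * adj p a := fun c a => by
    refine trace_ext (F := F) fun b => ?_
    rw [← adj_spec, ← mul_assoc b c, ← adj_spec]
    show Algebra.trace F K (P b * (ν c * a)) = Algebra.trace F K (P (b * c) * a)
    rw [mul_comm b c, hν]
    congr 1
    ring
  have hq : adj p 1 ≠ 0 := fun h0 => by
    have h1 : ∀ b, Algebra.trace F K (p b * 1) = 0 := fun b => by rw [adj_spec, h0, mul_zero, map_zero]
    have h2 : (1 : K) = 0 := trace_ext (F := F) fun b => by
      have h3 := h1 (P.symm b)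
      rw [show p (P.symm b) = b from P.apply_symm_apply b] at h3
      rw [h3, mul_zero, map_zero]
    exact one_ne_zero h2
  have hperp : ∀ z, z ∈ S.perp e → g z ∈ S.perp e := fun z hz => by
    refine S.eq_zero_of_trace fun c => ?_
    rw [f, S.smul_left, ← S.smul_right]
    show S.f (g z) (c • e) = 0
    rw [← P.apply_symm_apply c, ← hP, S.f_iso hg, f, S.smul_right, S.mem_perp.1 hz, mul_zero, map_zero]
  have hperp' : ∀ z, z ∈ S.perp e → g⁻¹ z ∈ S.perp e := fun z hz => by
    rw [mem_perp, S.omega_inv hg hP, S.mem_perp.1 hz, map_zero]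
  -- semilinearity on the orthogonal
  let C : V → K → V := fun y a => g (adj p a • y)
  have hCperp : ∀ y ∈ S.perp e, ∀ a, C y a ∈ S.perp e := fun y hy a =>
    hperp _ (Submodule.smul_mem _ _ hy)
  let B : V → V → K := fun y z => P (S.ω (g⁻¹ z) y)
  have hB : ∀ y z c, Algebra.trace F K (c * B y z) = S.f z (C y c) := fun y z c => by
    show Algebra.trace F K (c * p (S.ω (g⁻¹ z) y)) = _
    rw [mul_comm, adj_spec, mul_comm, ← S.smul_right]
    exact S.f_inv hg _ _
  have hBadd : ∀ y z z', B y (z + z') = B y z + B y z' := fun y z z' => by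
    show P _ = P _ + P _
    rw [map_add, S.add_left, map_add]
  have ha : ∀ y ∈ S.perp e, ∀ z, (g * S.rad e y * g⁻¹) z = z + C y (S.ω z e) + B y z • e := by
    intro y hy z
    show g (S.rad e y (g⁻¹ z)) = _
    rw [S.rad_apply hy, map_add, map_add, apply_inv_self', hP, S.omega_inv hg hP]
  have hlin : ∀ y ∈ S.perp e, ∀ a : K, C y a = a • C y 1 := by
    have hsym : ∀ y ∈ S.perp e, ∀ x ∈ S.perp e, ∀ φ : Module.End F K,
        (∀ a, φ a = S.ω (C y a) x) → ∃ t, φ + adj φ = Algebra.lmul F K t := by
      intro y hy x hx φ hφ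
      have hBe : ∀ c : K, B y (c • e) = 0 := fun c => trace_ext (F := F) fun d => by
        rw [hB, mul_zero, map_zero, f, S.skew, S.smul_right, S.mem_perp.1 (hCperp y hy d), mul_zero,
          neg_zero, map_zero]
      have hBx : ∀ a : K, B y (a • x) = -adj φ a := fun a => trace_ext (F := F) fun c => by
        rw [hB, f, S.smul_left, S.skew, ← hφ, mul_neg, mul_neg, map_neg, map_neg, ← adj_spec, mul_comm]
      have heq : g * S.rad e y * g⁻¹ * S.rad e x =
          S.root e (-(φ + adj φ)) * (S.rad e x * (g * S.rad e y * g⁻¹)) := by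
        refine LinearEquiv.ext fun z => ?_
        show (g * S.rad e y * g⁻¹) (S.rad e x z) =
          S.root e _ (S.rad e x ((g * S.rad e y * g⁻¹) z))
        have hxe : S.ω x e = 0 := hx
        have h1 : S.ω (S.rad e x z) e = S.ω z e := by
          rw [S.rad_apply hxe, S.add_left, S.add_left, S.smul_left, S.smul_left, hxe, S.alt]; ring
        have hex : S.ω e x = 0 := by rw [S.skew, hxe, neg_zero]
        rw [root_apply, S.rad_apply hxe ((g * S.rad e y * g⁻¹) z), ha y hy, ha y hy, h1,
          S.rad_apply hxe z, hBadd, hBadd, hBx, hBe]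
        simp only [S.add_left, S.smul_left, S.alt, hxe, hex, S.mem_perp.1 (hCperp y hy _), mul_zero,
          add_zero, LinearMap.neg_apply, LinearMap.add_apply, ← hφ, add_smul, neg_smul, neg_add]
        abel
      have hmem : S.root e (-(φ + adj φ)) ∈ S.M := by
        rw [eq_mul_inv_of_mul_eq heq.symm]
        have h1 : g * S.rad e y * g⁻¹ ∈ S.M :=
          S.M.mul_mem (S.M.mul_mem hg (S.rad_mem e y)) (S.M.inv_mem hg)
        exact S.M.mul_mem (S.M.mul_mem h1 (S.rad_mem e x)) (S.M.inv_mem (S.M.mul_mem (S.rad_mem e x) h1))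
      have hsa : SelfAdj (φ + adj φ) := selfAdj_of_adj_eq (by rw [adj_add, adj_adj, add_comm])
      obtain ⟨t, ht⟩ := hcon _ ((neg_mem_iff (H := S.params e)).1
        ⟨fun a b => by simp only [LinearMap.neg_apply, neg_mul, mul_neg, map_neg]; rw [hsa], hmem⟩)
      exact ⟨t, ht⟩
    have hscal : ∀ y ∈ S.perp e, ∀ (d a : K), C (ν.symm d • y) a = C y (d * a) := fun y hy d a => by
      show g (adj p a • ν.symm d • y) = g (adj p (d * a) • y)
      rw [smul_smul, mul_comm, ← hadj, AlgEquiv.apply_symm_apply]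
    have hCadd : ∀ y a b, C y (a + b) = C y a + C y b := fun y a b => by
      show g _ = g _ + g _
      rw [map_add, add_smul, map_add]
    have hCsmul : ∀ y (t : F) a, C y (t • a) = t • C y a := fun y t a => by
      show g _ = t • g _
      rw [map_smul (adj p), smul_assoc, map_smul]
    intro y hy a
    have hE : ∀ a, C y a - a • C y 1 = S.ω (C y a - a • C y 1) e' • e := by
      intro a
      refine S.eq_smul_of_perp he' fun x hx => ?_
      let φ : Module.End F K :=
        { toFun := fun b => S.ω (C y b) x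
          map_add' := fun b c => by rw [hCadd, S.add_left]
          map_smul' := fun t b => by
            rw [hCsmul, ← algebraMap_smul K t, S.smul_left, RingHom.id_apply, Algebra.smul_def] }
      have hc := comm_of_sym φ (fun d => hsym (ν.symm d • y) (Submodule.smul_mem _ _ hy) x hx _
        (fun b => by rw [hscal y hy]; rfl)) a
      rw [f, S.sub_left, S.smul_left, show S.ω (C y a) x = φ a from rfl,
        show S.ω (C y 1) x = φ 1 from rfl, hc, sub_self, map_zero]
    let E : Module.End F K :=
      { toFun := fun b => S.ω (C y b - b • C y 1) e'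
        map_add' := fun b c => by
          rw [hCadd, add_smul, add_sub_add_comm, S.add_left]
        map_smul' := fun t b => by
          rw [hCsmul, smul_assoc, ← smul_sub, ← algebraMap_smul K t, S.smul_left, RingHom.id_apply,
            Algebra.smul_def] }
    have hsymE : ∀ w ∈ S.perp e, ∀ G : Module.End F K, (∀ b, C w b - b • C w 1 = G b • e) →
        ∃ t, G + adj G = Algebra.lmul F K t := by
      intro w hw G hG
      have hCw : ∀ b, C w b = b • C w 1 + G b • e := fun b => by rw [← hG]; abel
      have hBw : ∀ z, B w z = S.ω z (C w 1) + adj G (S.ω z e) := fun z => trace_ext (F := F) fun c => by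
        rw [hB, hCw, f, S.add_right, S.smul_right, S.smul_right, mul_add, map_add, map_add, ← adj_spec]
      have heq : g * S.rad e w * g⁻¹ = S.rad e (C w 1) * S.root e (G + adj G) := by
        refine LinearEquiv.ext fun z => ?_
        rw [ha w hw, hBw, hCw]
        show _ = S.rad e (C w 1) (S.root e (G + adj G) z)
        rw [S.rad_apply (hCperp w hw 1), root_apply]
        simp only [S.add_left, S.smul_left, S.alt, S.skew e (C w 1), S.mem_perp.1 (hCperp w hw 1),
          neg_zero, mul_zero, add_zero, LinearMap.add_apply, add_smul]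
        abel
      have hmem : S.root e (G + adj G) ∈ S.M := by
        rw [← inv_mul_cancel_left (S.rad e (C w 1)) (S.root e (G + adj G)), ← heq]
        exact S.M.mul_mem (S.M.inv_mem (S.rad_mem _ _))
          (S.M.mul_mem (S.M.mul_mem hg (S.rad_mem e w)) (S.M.inv_mem hg))
      exact hcon _ ⟨selfAdj_of_adj_eq (by rw [adj_add, adj_adj, add_comm]), hmem⟩
    have hE0 : E a = 0 := by
      rw [comm_of_sym E (fun d => ?_) a]
      · show a * S.ω (C y 1 - (1 : K) • C y 1) e' = 0
        rw [one_smul, sub_self, S.zero_left, mul_zero]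
      have hG : ∀ b, C (ν.symm d • y) b - b • C (ν.symm d • y) 1 =
          (E * Algebra.lmul F K d - Algebra.lmul F K (E d)) b • e := fun b => by
        rw [hscal y hy, hscal y hy, mul_one, LinearMap.sub_apply, Module.End.mul_apply]
        simp only [Algebra.coe_lmul_eq_mul, LinearMap.mul_apply', sub_smul]
        rw [show E (d * b) • e = C y (d * b) - (d * b) • C y 1 from (hE _).symm,
          show (E d * b) • e = b • (C y d - d • C y 1) by
            rw [mul_comm, mul_smul, show E d • e = C y d - d • C y 1 from (hE _).symm],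
          smul_sub, ← mul_smul, mul_comm b]
        abel
      obtain ⟨t, ht⟩ := hsymE _ (Submodule.smul_mem _ _ hy) _ hG
      refine ⟨t + E d + E d, ?_⟩
      rw [map_add, map_add, ← ht, adj_sub, adj_mu]
      abel
    have h1 := hE a
    rw [show S.ω (C y a - a • C y 1) e' = E a from rfl, hE0, zero_smul, sub_eq_zero] at h1
    exact h1
  have hsemi : ∀ y ∈ S.perp e, ∀ c : K, g (c • y) = ν c • g y := fun y hy c => by
    have hy' : (adj p 1)⁻¹ • y ∈ S.perp e := Submodule.smul_mem _ _ hy
    have h1 : g (adj p (ν c) • (adj p 1)⁻¹ • y) = ν c • g (adj p 1 • (adj p 1)⁻¹ • y) :=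
      hlin _ hy' (ν c)
    rw [show adj p (ν c) = c * adj p 1 by rw [← hadj, mul_one], mul_smul,
      smul_inv_smul₀ hq] at h1
    exact h1
  -- the partner
  set Δ : K → V := fun c => g (c • e') - ν c • g e' with hΔ
  have hω : ∀ y ∈ S.perp e, S.ω (g e') (g y) = ν (S.ω e' y) := fun y hy => trace_ext (F := F) fun a => by
    obtain ⟨b, rfl⟩ := ν.surjective a
    rw [← map_mul, Algebra.trace_eq_of_algEquiv, ← S.smul_right, ← hsemi y hy]
    rw [show Algebra.trace F K (S.ω (g e') (g (b • y))) = S.f (g e') (g (b • y)) from rfl, S.f_iso hg,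
      f, S.smul_right]
  have hΔe : ∀ c, Δ c = S.ω (Δ c) e' • e := fun c => by
    refine S.eq_smul_of_perp he' fun z hz => ?_
    obtain ⟨y, hy, rfl⟩ : ∃ y ∈ S.perp e, g y = z := ⟨g⁻¹ z, hperp' z hz, apply_inv_self' g z⟩
    have h1 := S.f_iso hg (c • e') y
    simp only [f] at h1
    rw [hΔ, f, S.sub_left, map_sub, h1, S.smul_left (ν c), hω y hy, ← map_mul,
      Algebra.trace_eq_of_algEquiv, ← S.smul_left, sub_self]
  have hp1 : P 1 ≠ 0 := fun h => one_ne_zero (P.map_eq_zero_iff.1 h)
  have hge : S.ω (g e') e = -(P 1)⁻¹ := by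
    have h1 := hω e (S.self_mem_perp e)
    rw [show g e = P 1 • e by rw [← hP, one_smul], S.smul_right, S.skew e' e, he', map_neg, map_one ν] at h1
    field_simp
    linear_combination h1
  let D : K →ₗ[F] K :=
    { toFun := fun c => S.ω (Δ c) e'
      map_add' := fun a b => by
        show S.ω (g ((a + b) • e') - ν (a + b) • g e') e' = _
        rw [add_smul, map_add, map_add, add_smul, add_sub_add_comm, S.add_left]
      map_smul' := fun t a => by
        show S.ω (g ((t • a) • e') - ν (t • a) • g e') e' = _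
        rw [map_smul ν, smul_assoc, map_smul g, smul_assoc, ← smul_sub, ← algebraMap_smul K t, S.smul_left,
          RingHom.id_apply, Algebra.smul_def] }
  let T : Module.End F K := D ∘ₗ ν.symm.toLinearMap ∘ₗ Algebra.lmul F K (-(P 1))
  have hTD : ∀ c, T (-(P 1)⁻¹ * ν c) = D c := fun c => by
    show D (ν.symm (-(P 1) * (-(P 1)⁻¹ * ν c))) = D c
    rw [← mul_assoc, neg_mul_neg, mul_inv_cancel₀ hp1, one_mul, AlgEquiv.symm_apply_apply]
  have hgc : ∀ c, g (c • e') = ν c • g e' + D c • e := fun c => by
    rw [← sub_eq_iff_eq_add']; exact hΔe c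
  have hTsa : SelfAdj T := by
    intro a b
    obtain ⟨c, rfl⟩ : ∃ c, -(P 1)⁻¹ * ν c = a := ⟨ν.symm (-(P 1) * a), by
      rw [AlgEquiv.apply_symm_apply, ← mul_assoc, neg_mul_neg, inv_mul_cancel₀ hp1, one_mul]⟩
    obtain ⟨d, rfl⟩ : ∃ d, -(P 1)⁻¹ * ν d = b := ⟨ν.symm (-(P 1) * b), by
      rw [AlgEquiv.apply_symm_apply, ← mul_assoc, neg_mul_neg, inv_mul_cancel₀ hp1, one_mul]⟩
    rw [hTD, hTD]
    have h := S.f_iso hg (c • e') (d • e')
    rw [hgc, hgc] at h
    simp only [f, S.add_left, S.add_right, S.smul_left, S.smul_right, S.alt, mul_zero, add_zero,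
      zero_add, hge, S.skew e (g e'), map_add, map_zero] at h
    have e1 : ν c * (D d * -(P 1)⁻¹) = -(P 1)⁻¹ * ν c * D d := by ring
    have e2 : D c * (ν d * -(-(P 1)⁻¹)) = -(D c * (-(P 1)⁻¹ * ν d)) := by ring
    rw [e1, e2, map_neg] at h
    linear_combination -h
  set g0 := S.root e (-T) * g with hg0
  have hg0y : ∀ y ∈ S.perp e, g0 y = g y := fun y hy => S.root_fix _ (hperp y hy)
  have hg0e : ∀ c, g0 (c • e') = ν c • g e' := fun c => by
    show S.root e (-T) (g (c • e')) = _
    rw [hgc, root_apply, S.add_left, S.smul_left, S.smul_left, S.alt, mul_zero, add_zero, hge,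
      LinearMap.neg_apply, mul_comm, hTD, neg_smul, add_neg_cancel_right]
  have hg0semi : ∀ (c : K) z, g0 (c • z) = ν c • g0 z := fun c z => by
    have hz := S.decomp he' z
    have e1 : z = (z - (-S.ω z e) • e') + (-S.ω z e) • e' := (sub_add_cancel _ _).symm
    rw [e1, smul_add, map_add, map_add, smul_add, ← mul_smul, hg0y _ (Submodule.smul_mem _ c hz),
      hg0y _ hz, hg0e, hg0e, hsemi _ hz, map_mul, mul_smul]
  have hnegsa : SelfAdj (-T) := fun a b => by
    simp only [LinearMap.neg_apply, neg_mul, mul_neg, map_neg]; rw [hTsa]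
  have hg0M : g0 ∈ S.M := S.semi_mem _ (fun c => ⟨ν c, hg0semi c⟩) fun x y => by
    show Algebra.trace F K (S.ω (S.root e (-T) (g x)) (S.root e (-T) (g y))) = _
    exact (S.root_iso e hnegsa (g x) (g y)).trans (S.f_iso hg x y)
  have hT : T ∈ S.params e := (neg_mem_iff (H := S.params e)).1 ⟨hnegsa, by
    rw [← mul_inv_cancel_right (S.root e (-T)) g]; exact S.M.mul_mem hg0M (S.M.inv_mem hg)⟩
  obtain ⟨t, ht⟩ := hcon _ hT
  refine hns fun c => ⟨ν c, fun z => ?_⟩
  have hg' : g = S.root e T * g0 := by
    rw [hg0, ← mul_assoc, S.root_mul, add_neg_cancel, S.root_zero, one_mul]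
  rw [hg', ht]
  show S.root e _ (g0 (c • z)) = _
  rw [hg0semi, S.root_linear]
  rfl

/-- **Step 3.** -/
theorem exists_nonsemi_line (h3 : 3 ≤ finrank F K) {e : V} (he : e ≠ 0) {A : Module.End F K}
    (hA : A ∈ S.params e) (hAns : ∀ t : K, A ≠ Algebra.lmul F K t) :
    ∃ e1 : V, e1 ≠ 0 ∧ ∃ g ∈ S.M, ∃ P : K ≃ₗ[F] K, (∀ c, g (c • e1) = P c • e1) ∧ ¬ PSemi P := by
  by_contra hcon
  push Not at hcon
  obtain ⟨e', he'⟩ := S.exists_partner he
  have he'0 : e' ≠ 0 := fun h => by rw [h, S.zero_right] at he'; exact zero_ne_one he'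
  have he'e : S.ω e' e = -1 := by rw [S.skew, he']
  obtain ⟨w, hw, hwl, hwe⟩ := S.exists_move he he'0
  have hA' : A ∈ S.params e' := by
    have h := S.params_conj hw (P := LinearEquiv.refl F K) (e' := e')
      (fun c => by rw [hwl, hwe]; rfl) hA
    rwa [show ((LinearEquiv.refl F K).toLinearMap : Module.End F K) = 1 from rfl, adj_one, one_mul,
      mul_one] at h
  set g := S.root e' A with hg
  have hgM : g ∈ S.M := hA'.2
  have hge : ∀ c : K, g (c • e) = c • e + A c • e' := fun c => by
    rw [hg, root_apply, S.smul_left, he', mul_one]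
  have hgN : ∀ z, S.ω z e' = 0 → g⁻¹ z = z := fun z hz => by
    rw [hg, S.root_inv, S.root_fix _ hz]
  obtain ⟨c0, hc0⟩ : ∃ c0, A c0 ≠ c0 * A 1 := by
    by_contra h
    push Not at h
    exact hAns (A 1) (LinearMap.ext fun a => by simp [h a, mul_comm])
  have hc0F : c0 ∉ Set.range (algebraMap F K) := by
    rintro ⟨t, rfl⟩
    exact hc0 (by rw [Algebra.algebraMap_eq_smul_one, map_smul, smul_mul_assoc, one_mul])
  set x := e + A 1 • e' with hx
  have hxg : g e = x := by
    have := hge 1
    rwa [one_smul] at this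
  have hxne : x ≠ 0 := fun h => he (g.map_eq_zero_iff.1 (hxg ▸ h))
  set α0 := S.ω (g⁻¹ (c0 • x)) e with hα0def
  have hα0 : α0 ≠ 0 := by
    have h1 : α0 = A c0 - c0 * A 1 := by
      rw [hα0def, hg, S.root_inv, root_apply, hx]
      simp only [S.add_left, S.smul_left, S.alt, he'e, he', LinearMap.neg_apply, mul_zero, add_zero,
        zero_add, mul_one]
      ring
    rw [h1]
    exact sub_ne_zero.2 hc0
  set k := g * S.root e (Algebra.lmul F K α0⁻¹) * g⁻¹ with hk
  have hkM : k ∈ S.M := S.M.mul_mem (S.M.mul_mem hgM (S.root_mu_mem _ _)) (S.M.inv_mem hgM)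
  have hkz : ∀ z, k z = z + g ((α0⁻¹ * S.ω (g⁻¹ z) e) • e) := fun z => by
    show g (S.root e _ (g⁻¹ z)) = _
    rw [S.root_apply e, map_add, apply_inv_self']
    rfl
  have hkfix : ∀ a : K, k (g (a • e)) = g (a • e) := fun a => by
    rw [hkz, inv_apply_self, S.smul_left, S.alt, mul_zero, mul_zero, zero_smul, map_zero, add_zero]
  have hkx : k x = x := by
    have := hkfix 1
    rwa [one_smul, hxg] at this
  have hkx0 : k (c0 • x) = c0 • x + x := by
    rw [hkz, ← hα0def, inv_mul_cancel₀ hα0, one_smul, hxg]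
  have hkN : ∀ z, S.ω z e = 0 → S.ω z e' = 0 → k z = z := fun z h1 h2 => by
    rw [hkz, hgN z h2, h1, mul_zero, zero_smul, map_zero, add_zero]
  -- coordinates of a multiple of `x`
  have hxe : S.ω x e = -A 1 := by rw [hx, S.add_left, S.smul_left, S.alt, he'e]; ring
  have hxe' : S.ω x e' = 1 := by rw [hx, S.add_left, S.smul_left, S.alt, he']; ring
  -- `k` moves the line of `x`
  obtain ⟨d, hd⟩ : ∃ d : K, k (d • x) ∉ Submodule.span K {x} := by
    by_contra h
    push Not at h
    obtain ⟨P, hP⟩ := exists_lineMap (g := k) hxne hxne h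
    obtain ⟨ν, hν⟩ := (hcon x hxne k hkM P hP).exists_aut
    have hP1 : P 1 = 1 := smul_left_injective K hxne (by
      show P 1 • x = (1 : K) • x
      rw [← hP, one_smul, hkx])
    have hν' : ∀ c, P c = ν c := fun c => by
      have h1 := hν c 1
      rwa [mul_one, hP1, mul_one] at h1
    have hνc0 : ν c0 = c0 + 1 := smul_left_injective K hxne (by
      show ν c0 • x = (c0 + 1) • x
      rw [← hν', ← hP, hkx0, add_smul, one_smul])
    have hne : ν ≠ 1 := fun h1 => by rw [h1, AlgEquiv.one_apply] at hνc0; simp at hνc0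
    obtain ⟨c, hc⟩ := exists_sub_not_range S.prime h3 hne
    apply hc
    set γ := α0⁻¹ * S.ω (g⁻¹ (c • x)) e with hγ
    have h1 : (ν c - c) • x = γ • e + A γ • e' := by
      rw [sub_smul, ← hν', ← hP, hkz, add_sub_cancel_left, ← hγ, hge]
    have h2 : ν c - c = γ := by
      have := congrArg (fun z => S.ω z e') h1
      simpa [S.add_left, S.smul_left, hxe', he', S.alt] using this
    have h4 : k (γ • x) = γ • x := by
      have : γ • x = g (γ • e) := by rw [hge, ← h1, h2]
      rw [this]; exact hkfix γ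
    rw [hP, hν'] at h4
    have h5 := mem_range_of_fixed S.prime hne (smul_left_injective K hxne h4)
    rw [← h2] at h5
    obtain ⟨t, ht⟩ := h5
    exact ⟨-t, by rw [map_neg, ht]; ring⟩
  -- the group fixing the plane's orthogonal and two points of the line
  let F0 : Set V := {z | (S.ω z e = 0 ∧ S.ω z e' = 0) ∨ z = x ∨ z = c0 • x + x}
  have hperpN : ∀ z, S.ω z e = 0 → S.ω z e' = 0 → S.ω z x = 0 := fun z h1 h2 => by
    rw [hx, S.add_right, S.smul_right, h1, h2, mul_zero, add_zero]
  refine S.stable_contra hxne (fixG S.M F0) (fun h hh => hh.1) ?_ ?_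
    (k := k * S.root x (Algebra.lmul F K 1) * k⁻¹) ?_ ?_
  · rintro h ⟨T, hT, rfl⟩
    refine ⟨hT.2, ?_⟩
    rintro z (⟨h1, h2⟩ | rfl | rfl)
    · exact S.root_fix T (hperpN z h1 h2)
    · exact S.root_fix T (S.alt x)
    · exact S.root_fix T (by rw [S.add_left, S.smul_left, S.alt, mul_zero, add_zero])
  · intro h hh hline
    obtain ⟨P, hP⟩ := exists_lineMap (g := h) hxne hxne hline
    obtain ⟨ν, hν⟩ := (hcon x hxne h hh.1 P hP).exists_aut
    have hfx : h x = x := hh.2 x (Or.inr (Or.inl rfl))
    have hP1 : P 1 = 1 := smul_left_injective K hxne (by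
      show P 1 • x = (1 : K) • x
      rw [← hP, one_smul, hfx])
    have hν' : ∀ c, P c = ν c := fun c => by
      have h1 := hν c 1
      rwa [mul_one, hP1, mul_one] at h1
    have hνc0 : ν c0 = c0 := smul_left_injective K hxne (by
      show ν c0 • x = c0 • x
      have h1 := hh.2 (c0 • x + x) (Or.inr (Or.inr rfl))
      rw [map_add, hfx, hP, hν'] at h1
      exact add_right_cancel h1)
    have hone : ν = 1 := by
      by_contra hne
      exact hc0F (mem_range_of_fixed S.prime hne hνc0)
    intro z hz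
    set a := S.ω z e' with ha
    have hN : S.ω (z - a • x) e = 0 ∧ S.ω (z - a • x) e' = 0 := by
      refine ⟨?_, by rw [S.sub_left, S.smul_left, hxe', mul_one, sub_self]⟩
      rw [mem_perp, hx, S.add_right, S.smul_right] at hz
      rw [S.sub_left, S.smul_left, hxe]
      linear_combination hz
    have h1 := hh.2 _ (Or.inl hN)
    rw [map_sub, hP, hν', hone, AlgEquiv.one_apply] at h1
    exact sub_left_inj.1 h1
  · refine ⟨S.M.mul_mem (S.M.mul_mem hkM (S.root_mu_mem _ _)) (S.M.inv_mem hkM), ?_⟩
    intro z hz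
    show k (S.root x _ (k⁻¹ z)) = z
    rw [S.root_fix _ ?_, apply_inv_self']
    rcases hz with ⟨h1, h2⟩ | rfl | rfl
    · rw [inv_apply_of_mem_fixG (s := {z}) (H := S.M) ⟨hkM, by rintro u rfl; exact hkN _ h1 h2⟩
        (Set.mem_singleton z)]
      exact hperpN z h1 h2
    · rw [(congrArg (⇑k⁻¹) hkx).symm.trans (inv_apply_self k x)]
      exact S.alt x
    · rw [← hkx0, inv_apply_self, S.smul_left, S.alt, mul_zero]
  · by_contra h
    push Not at h
    -- `k` preserves the orthogonal of `x`
    have hpres : ∀ y ∈ S.perp x, k⁻¹ y ∈ S.perp x := fun y hy => by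
      have h1 := h y hy
      have h2 : S.root x (Algebra.lmul F K 1) (k⁻¹ y) = k⁻¹ y := by
        have h1' : k (S.root x (Algebra.lmul F K 1) (k⁻¹ y)) = y := h1
        conv_rhs => rw [← h1', inv_apply_self]
      rw [root_apply, add_eq_left, smul_eq_zero] at h2
      rw [mem_perp]
      simpa using h2.resolve_right hxne
    let f' : S.perp x → S.perp x := fun y => ⟨k⁻¹ y, hpres _ y.2⟩
    have hinj : Function.Injective f' := fun a b hab =>
      Subtype.ext ((k⁻¹).injective (congrArg Subtype.val hab))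
    obtain ⟨⟨y, hy⟩, hyd⟩ := Finite.injective_iff_surjective.1 hinj
      ⟨d • x, Submodule.smul_mem _ _ (S.self_mem_perp x)⟩
    have hyk : y = k (d • x) := by
      rw [← show k⁻¹ y = d • x from congrArg Subtype.val hyd, apply_inv_self']
    apply hd
    rw [hyk, mem_perp, hkz, S.add_left, S.smul_left, S.alt, mul_zero, zero_add, hge, S.add_left,
      S.smul_left, S.smul_left, hx, S.add_right, S.add_right, S.smul_right, S.smul_right, S.alt, he',
      he'e, S.alt] at hy
    set γ := α0⁻¹ * S.ω (g⁻¹ (d • x)) e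
    have hAγ : A γ = γ * A 1 := by linear_combination -hy
    have h3 : γ • e + (γ * A 1) • e' = γ • x := by rw [hx, smul_add, smul_smul γ (A 1)]
    rw [hkz, hge, hAγ, h3]
    exact Submodule.add_mem _ (Submodule.smul_mem _ _ (Submodule.mem_span_singleton_self x))
      (Submodule.smul_mem _ _ (Submodule.mem_span_singleton_self x))

/-- **Conclusion.** Every transvection of the trace form lies in the group. -/
theorem transvection_mem (hnot : ∃ g ∈ S.M, ¬ IsSemi F K g) (v : V) (a : F) :
    ∃ g ∈ S.M, ∀ z, g z = z + (a * S.f z v) • v := by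
  obtain ⟨e0, g0, he0, hg0, hst, hns⟩ := S.exists_stab hnot
  obtain ⟨T, hT, hTns⟩ := S.exists_nonlinear_param he0 hg0 hst hns
  obtain ⟨e, he, hpi⟩ : ∃ e : V, e ≠ 0 ∧ piMap ∈ S.params e := by
    rcases Nat.lt_or_ge (finrank F K) 3 with h3 | h3
    · have h2 : finrank F K = 2 := by have := S.prime.two_le; omega
      exact ⟨e0, he0, piMap_mem_two h2 (S.params_family he0) hT hTns⟩
    · obtain ⟨e, he, g, hg, P, hP, hPns⟩ := S.exists_nonsemi_line h3 he0 hT hTns
      refine ⟨e, he, piMap_mem_of_congr S.prime h3 (S.params_family he) P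
        (fun T hT => S.params_conj hg hP hT) ?_⟩
      simpa [PSemi] using hPns
  by_cases hv : v = 0
  · exact ⟨1, S.M.one_mem, fun z => by subst hv; simp⟩
  have hsq : ∀ b : F, ∃ g ∈ S.M, ∀ z, g z = z + (b ^ 2 * S.f z v) • v := by
    intro b
    by_cases hb : b = 0
    · exact ⟨1, S.M.one_mem, fun z => by subst hb; simp⟩
    have hbv : b • v ≠ 0 := smul_ne_zero hb hv
    obtain ⟨h, hh, hhl, hhe⟩ := S.exists_move he hbv
    refine ⟨h * S.root e piMap * h⁻¹, S.M.mul_mem (S.M.mul_mem hh hpi.2) (S.M.inv_mem hh), fun z => ?_⟩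
    show h (S.root e piMap (h⁻¹ z)) = _
    rw [root_apply, piMap_apply, algebraMap_smul, map_add, map_smul, apply_inv_self', hhe]
    show z + S.f (h⁻¹ z) e • b • v = _
    rw [S.f_inv hh, hhe, smul_smul, f, ← algebraMap_smul K b v, S.smul_right, ← Algebra.smul_def,
      map_smul, smul_eq_mul]
    congr 2
    rw [f]; ring
  obtain ⟨b, b', rfl⟩ := exists_two_sq a
  obtain ⟨g, hg, hgz⟩ := hsq b
  obtain ⟨g', hg', hgz'⟩ := hsq b'
  refine ⟨g * g', S.M.mul_mem hg hg', fun z => ?_⟩
  show g (g' z) = _
  have hvv : S.f v v = 0 := by rw [f, S.alt, map_zero]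
  rw [hgz', map_add, map_smul, hgz, hgz, hvv, mul_zero, zero_smul, add_zero, add_mul, add_smul]
  abel

end Setting

end Cfsg.Agent.Lib.K41.ExtForm
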